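import Mathlib
import Cfsg.Agent.Lib.PGroup.Basic

/-!
# Two-groups with a short upper central series: basic facts

`T` is a finite 2-group of order at least `2^14` with `|Z₄(T)| = 16`, `W = C_T(Z₃(T))`, the Frattini
subgroup of `W` has order at most `8` and lies in every subgroup of `W` of index at most `16`.
-/

set_option autoImplicit false

open Subgroup
open scoped commutatorElement

namespace Cfsg.Lib.RudSylow

variable {T : Type*} [Group T] [Finite T]

local notation "Z[" i "]" => Subgroup.upperCentralSeries T i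

/-- A normal subgroup not inside a term of the upper central series meets the next term outside it. -/
theorem exists_mem_succ [Group.IsNilpotent T] {N : Subgroup T} [N.Normal] {j : ℕ} (h : ¬ N ≤ Z[j]) :
    ∃ x ∈ N, x ∈ Z[j + 1] ∧ x ∉ Z[j] := by
  obtain ⟨K, ⟨hKn, hKN, hKZ⟩, hKmin⟩ := Set.Finite.exists_minimal
    (s := {K : Subgroup T | K.Normal ∧ K ≤ N ∧ ¬ K ≤ Z[j]}) (Set.toFinite _)
    ⟨N, inferInstance, le_rfl, h⟩
  haveI := hKn
  have hKP : ⁅K, (⊤ : Subgroup T)⁆ ≤ Z[j] := by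
    by_contra hne
    have hle : ⁅K, (⊤ : Subgroup T)⁆ ≤ K := commutator_le_left K ⊤
    have heq : K ≤ ⁅K, (⊤ : Subgroup T)⁆ := hKmin ⟨inferInstance, hle.trans hKN, hne⟩ hle
    have hlow : ∀ n, K ≤ Subgroup.lowerCentralSeries (⊤ : Subgroup T) n := by
      intro n
      induction n with
      | zero => simp
      | succ n ih =>
        rw [Subgroup.lowerCentralSeries_succ]
        exact heq.trans (commutator_mono ih le_rfl)
    obtain ⟨n, hn⟩ := Subgroup.nilpotent_iff_lowerCentralSeries.1 (inferInstance : Group.IsNilpotent T)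
    exact hKZ ((hlow n).trans (le_of_eq_of_le hn bot_le))
  obtain ⟨x, hxK, hxZ⟩ := SetLike.not_le_iff_exists.1 hKZ
  exact ⟨x, hKN hxK, Subgroup.mem_upperCentralSeries_succ_iff.2 fun y =>
    hKP (commutator_mem_commutator hxK (mem_top y)), hxZ⟩

theorem two_mul_card_le {A B : Subgroup T} (hT : IsPGroup 2 T) (hAB : A ≤ B) (hne : A ≠ B) :
    2 * Nat.card A ≤ Nat.card B := by
  haveI : Fact (Nat.Prime 2) := ⟨Nat.prime_two⟩
  have hlt : Nat.card A < Nat.card B := by
    by_contra h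
    exact hne (eq_of_le_of_card_ge hAB (not_lt.1 h))
  obtain ⟨m, hm⟩ := IsPGroup.iff_card.1 (hT.to_subgroup A)
  obtain ⟨n, hn⟩ := IsPGroup.iff_card.1 (hT.to_subgroup B)
  rw [hm, hn] at hlt
  rw [hm, hn, ← pow_succ']
  exact Nat.pow_le_pow_right (by norm_num) ((Nat.pow_lt_pow_iff_right (by norm_num)).1 hlt)

/-- A normal subgroup of order at most `2^k` lies in the `k`-th term. -/
theorem le_of_card_le (hT : IsPGroup 2 T) {N : Subgroup T} [N.Normal] {k : ℕ}
    (hc : Nat.card N ≤ 2 ^ k) : N ≤ Z[k] := by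
  haveI : Fact (Nat.Prime 2) := ⟨Nat.prime_two⟩
  haveI : Group.IsNilpotent T := hT.isNilpotent
  by_contra hnot
  have hgrow : ∀ j, j ≤ k → 2 ^ j ≤ Nat.card ↥(N ⊓ Z[j]) := by
    intro j
    induction j with
    | zero => intro _; exact Nat.card_pos
    | succ j ih =>
      intro hj
      have hnj : ¬ N ≤ Z[j] := fun h => hnot (h.trans (Subgroup.upperCentralSeries_mono T (by omega)))
      obtain ⟨x, hxN, hx1, hx0⟩ := exists_mem_succ hnj
      have := two_mul_card_le hT (inf_le_inf_left N (Subgroup.upperCentralSeries_mono T (Nat.le_succ j)))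
        (fun h => hx0 (h.ge ⟨hxN, hx1⟩).2)
      have := ih (by omega)
      simp only [Nat.succ_eq_add_one, pow_succ] at *; omega
  have h1 := hgrow k le_rfl
  have h2 : N ⊓ Z[k] ≠ N := fun h => hnot (inf_eq_left.1 h)
  have := two_mul_card_le hT inf_le_left h2
  have := Nat.two_pow_pos k
  omega

/-- The hypotheses. -/
structure Cond (T : Type*) [Group T] (W : Subgroup T) : Prop where
  two : IsPGroup 2 T
  big : 2 ^ 14 ≤ Nat.card T
  four : Nat.card ↥(Subgroup.upperCentralSeries T 4) = 16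
  eq : W = centralizer ((Subgroup.upperCentralSeries T 3 : Subgroup T) : Set T)
  small : Nat.card ↥(frattini ↥W) ≤ 8
  deep : ∀ U : Subgroup ↥W, U.index ≤ 16 → frattini ↥W ≤ U

variable {W : Subgroup T}

theorem Cond.cardZ (h : Cond T W) {i : ℕ} (hi : i ≤ 4) : Nat.card ↥(Z[i]) = 2 ^ i := by
  haveI : Fact (Nat.Prime 2) := ⟨Nat.prime_two⟩
  haveI : Group.IsNilpotent T := h.two.isNilpotent
  have hstep : ∀ j, j < 4 → 2 * Nat.card ↥(Z[j]) ≤ Nat.card ↥(Z[j + 1]) := by
    intro j hj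
    refine two_mul_card_le h.two (Subgroup.upperCentralSeries_mono T (Nat.le_succ j)) fun heq => ?_
    have htop : ¬ (⊤ : Subgroup T) ≤ Z[j] := fun ht => by
      have h16 := card_le_of_le (H := (⊤ : Subgroup T)) (K := Z[4]) (ht.trans (Subgroup.upperCentralSeries_mono T hj.le))
      rw [Subgroup.card_top, h.four] at h16
      have := h.big
      omega
    obtain ⟨x, -, hx1, hx0⟩ := exists_mem_succ htop
    exact hx0 (heq ▸ hx1)
  have h0 : Nat.card ↥(Z[0]) = 1 := by rw [Subgroup.upperCentralSeries_zero]; exact Subgroup.card_bot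
  have h1 := hstep 0 (by norm_num)
  have h2 := hstep 1 (by norm_num)
  have h3 := hstep 2 (by norm_num)
  have h4 := hstep 3 (by norm_num)
  have hf := h.four
  rw [h0] at h1
  simp only [zero_add, Nat.reduceAdd] at h1 h2 h3 h4
  interval_cases i <;> omega

/-- `Z₂` acts on the next terms through the centre: elements outside a term generate the next one. -/
theorem Cond.decomp (h : Cond T W) {i : ℕ} (hi : i < 4) {a : T} (ha : a ∈ Z[i + 1]) (ha' : a ∉ Z[i])
    {x : T} (hx : x ∈ Z[i + 1]) : x ∈ Z[i] ∨ a⁻¹ * x ∈ Z[i] := by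
  have hle := Subgroup.upperCentralSeries_mono T (Nat.le_succ i)
  have hidx : ((Z[i]).subgroupOf (Z[i + 1])).index = 2 := by
    have hm := card_mul_index ((Z[i]).subgroupOf (Z[i + 1]))
    rw [Nat.card_congr (subgroupOfEquivOfLe hle).toEquiv, h.cardZ hi.le, h.cardZ hi, pow_succ] at hm
    exact Nat.eq_of_mul_eq_mul_left (Nat.two_pow_pos i) hm
  by_cases hxi : x ∈ Z[i]
  · exact Or.inl hxi
  right
  have hiff := (mul_mem_iff_of_index_two hidx (a := ⟨a⁻¹, inv_mem ha⟩) (b := ⟨x, hx⟩))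
  simp only [mem_subgroupOf] at hiff
  refine hiff.2 ⟨fun hh => absurd ((inv_mem_iff (H := Z[i])).1 hh) ha', fun hh => absurd hh hxi⟩

theorem conj_step {i : ℕ} {x : T} (hx : x ∈ Z[i + 1]) (t : T) : t * x * t⁻¹ * x⁻¹ ∈ Z[i] := by
  have h1 := inv_mem (Subgroup.mem_upperCentralSeries_succ_iff.1 hx t)
  rwa [commutatorElement_inv, commutatorElement_def] at h1

theorem Cond.mem_one (h : Cond T W) {x : T} (hx : x ∈ Z[1]) (t : T) : t * x = x * t := by
  rw [Subgroup.upperCentralSeries_one] at hx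
  exact mem_center_iff.1 hx t

/-- The flag in `Z₃`. -/
theorem Cond.exists_flag (h : Cond T W) : ∃ a b c : T, a ∈ Z[3] ∧ a ∉ Z[2] ∧ b ∈ Z[2] ∧ b ∉ Z[1] ∧
    c ∈ Z[1] ∧ c ≠ 1 := by
  have hne : ∀ i, i < 4 → ∃ x ∈ Z[i + 1], x ∉ Z[i] := by
    intro i hi
    by_contra hall
    push Not at hall
    have := card_le_of_le (fun x hx => hall x hx : Z[i + 1] ≤ Z[i])
    rw [h.cardZ hi, h.cardZ hi.le, pow_succ] at this
    have := Nat.two_pow_pos i
    omega
  obtain ⟨c, hc, hc'⟩ := hne 0 (by norm_num)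
  obtain ⟨b, hb, hb'⟩ := hne 1 (by norm_num)
  obtain ⟨a, ha, ha'⟩ := hne 2 (by norm_num)
  exact ⟨a, b, c, ha, ha', hb, hb', hc, fun e => hc' (by rw [Subgroup.upperCentralSeries_zero, e]; exact one_mem _)⟩

theorem Cond.z1_cases (h : Cond T W) {c x : T} (hc : c ∈ Z[1]) (hc1 : c ≠ 1) (hx : x ∈ Z[1]) :
    x = 1 ∨ x = c := by
  have h0 : ∀ y : T, y ∈ Z[0] ↔ y = 1 := fun y => by rw [Subgroup.upperCentralSeries_zero]; exact mem_bot
  rcases h.decomp (i := 0) (by norm_num) hc (fun e => hc1 ((h0 c).1 e)) hx with h1 | h1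
  · exact Or.inl ((h0 x).1 h1)
  · exact Or.inr (inv_mul_eq_one.1 ((h0 _).1 h1)).symm

/-- Generation of `Z₃` by the flag. -/
theorem Cond.commute_z3 (h : Cond T W) {a b u : T} (ha : a ∈ Z[3]) (ha' : a ∉ Z[2]) (hb : b ∈ Z[2])
    (hb' : b ∉ Z[1]) (h1 : u * a = a * u) (h2 : u * b = b * u) : ∀ x ∈ Z[3], x * u = u * x := by
  have hz1 : ∀ x ∈ Z[1], x * u = u * x := fun x hx => (h.mem_one hx u).symm
  have hz2 : ∀ x ∈ Z[2], x * u = u * x := by
    intro x hx
    rcases h.decomp (i := 1) (by norm_num) hb hb' hx with hh | hh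
    · exact hz1 x hh
    · have : Commute (b * (b⁻¹ * x)) u := (show Commute b u from h2.symm).mul_left (hz1 _ hh)
      rwa [mul_inv_cancel_left] at this
  intro x hx
  rcases h.decomp (i := 2) (by norm_num) ha ha' hx with hh | hh
  · exact hz2 x hh
  · have : Commute (a * (a⁻¹ * x)) u := (show Commute a u from h1.symm).mul_left (hz2 _ hh)
    rwa [mul_inv_cancel_left] at this

theorem Cond.mem_W (h : Cond T W) {u : T} (hu : ∀ x ∈ Z[3], x * u = u * x) : u ∈ W := by
  rw [h.eq]; exact mem_centralizer_iff.2 hu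

theorem Cond.W_comm (h : Cond T W) {w x : T} (hw : w ∈ W) (hx : x ∈ Z[3]) : x * w = w * x :=
  mem_centralizer_iff.1 (h.eq ▸ hw) x hx

theorem Cond.W_normal (h : Cond T W) : W.Normal := by
  rw [h.eq]
  refine ⟨fun n hn g => mem_centralizer_iff.2 fun x hx => ?_⟩
  have := mem_centralizer_iff.1 hn (g⁻¹ * x * g)
    (by simpa using (inferInstance : (Z[3]).Normal).conj_mem x hx g⁻¹)
  calc x * (g * n * g⁻¹) = g * (g⁻¹ * x * g * n) * g⁻¹ := by group
    _ = g * (n * (g⁻¹ * x * g)) * g⁻¹ := by rw [this]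
    _ = g * n * g⁻¹ * x := by group

end Cfsg.Lib.RudSylow
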