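import Mathlib

/-!
# The finite check: singular five-spaces for invariant forms on the regular module of `D₈`
-/

set_option autoImplicit false

namespace Cfsg.Lib.RudSylow

open DihedralGroup

/-- The form: `al` on rotations of order four, `ta` on one class of reflections. -/
def beta (al ta : ZMod 2) : DihedralGroup 4 → ZMod 2
  | .r i => ![0, al, 0, al] i
  | .sr i => ![ta, 0, ta, 0] i

/-- The bilinear form on basis vectors. -/
def bil (al ta : ZMod 2) (g h : DihedralGroup 4) : ZMod 2 := beta al ta (g⁻¹ * h)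

/-- The form on lists of basis vectors. -/
def cross (al ta : ZMod 2) : List (DihedralGroup 4) → List (DihedralGroup 4) → ZMod 2
  | [], _ => 0
  | g :: L, L' => (L'.map (bil al ta g)).sum + cross al ta L L'

/-- The quadratic form on lists of basis vectors. -/
def quad (al ta ka : ZMod 2) : List (DihedralGroup 4) → ZMod 2
  | [] => 0
  | g :: L => ka + quad al ta ka L + (L.map (bil al ta g)).sum

/-- The five vectors. -/
def five (al ta ka : ZMod 2) : Fin 5 → List (DihedralGroup 4) :=
  if al = 0 then
    if ta = 0 then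
      if ka = 0 then ![[r 0], [r 1], [r 2], [r 3], [sr 0]]
      else ![[r 0, r 1], [r 0, r 2], [r 0, r 3], [r 0, sr 0], [r 0, sr 1]]
    else
      if ka = 0 then ![[r 0], [r 1], [r 2], [r 3], [sr 0, sr 2]]
      else ![[r 0, r 1], [r 0, r 2], [r 0, r 3], [sr 0, sr 1], [sr 0, sr 2]]
  else
    if ta = 0 then
      if ka = 0 then ![[r 0], [r 2], [sr 0], [sr 2], [r 1, r 3]]
      else ![[r 0, r 2], [r 1, r 3], [r 0, sr 0], [r 1, sr 1], [r 0, sr 2]]
    else
      if ka = 0 then ![[r 0], [r 2], [sr 1], [sr 3], [r 1, r 3]]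
      else ![[r 0, r 2], [r 1, r 3], [r 1, sr 0], [r 0, sr 1], [r 1, sr 2]]

/-- The number of occurrences modulo two. -/
def parity : List (DihedralGroup 4) → DihedralGroup 4 → ZMod 2
  | [], _ => 0
  | g :: L, x => (if g = x then 1 else 0) + parity L x

theorem five_quad : ∀ al ta ka : ZMod 2, ∀ j : Fin 5, quad al ta ka (five al ta ka j) = 0 := by
  decide +kernel

theorem five_cross : ∀ al ta ka : ZMod 2, ∀ j k : Fin 5,
    cross al ta (five al ta ka j) (five al ta ka k) = 0 := by
  decide +kernel

theorem five_indep : ∀ al ta ka : ZMod 2, ∀ d : Fin 5 → ZMod 2,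
    (∀ x, ∑ j, d j * parity (five al ta ka j) x = 0) → d = 0 := by
  decide +kernel

/-- Moving a function towards a fixed one. -/
def push (g : DihedralGroup 4) (d : DihedralGroup 4 → ZMod 2) : DihedralGroup 4 → ZMod 2 :=
  if (d + fun x => d (g⁻¹ * x)) = 0 then d else d + fun x => d (g⁻¹ * x)

theorem push_all : ∀ d : DihedralGroup 4 → ZMod 2, d ≠ 0 → push (sr 1) (push (sr 0) (push (r 2) d)) = 1 := by
  decide +kernel

end Cfsg.Lib.RudSylow
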