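import Cfsg.Agent.Lib.Local.RudSylow.Dihedral
import Cfsg.Agent.Lib.Local.RudSylow.Forms

/-!
# Two-groups with a short upper central series: the centre of `W`
-/

set_option autoImplicit false

open Subgroup

namespace Cfsg.Lib.RudSylow

section lists

variable {Q : Type*} [Group Q] {z : Q} {Y : DihedralGroup 4 → Q} {al ta ka : ZMod 2}

/-- The product of the lifts along a list. -/
def lprod (Y : DihedralGroup 4 → Q) : List (DihedralGroup 4) → Q
  | [] => 1
  | g :: L => Y g * lprod Y L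

variable (hz : ∀ q : Q, z * q = q * z) (hzz : z * z = 1)

include hzz in
theorem zp_add (m n : ZMod 2) : z ^ (m + n).val = z ^ m.val * z ^ n.val := by
  rw [← pow_add, ZMod.val_add, ← pow_eq_pow_mod _ (by rw [pow_two]; exact hzz)]

include hz hzz in
theorem lprod_one (hY : ∀ g k, Y g * Y k = z ^ (bil al ta g k).val * (Y k * Y g)) (g : DihedralGroup 4) :
    ∀ L, Y g * lprod Y L = z ^ ((L.map (bil al ta g)).sum).val * (lprod Y L * Y g) := by
  intro L
  induction L with
  | nil => simp [lprod]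
  | cons k L ih =>
    rw [List.map_cons, List.sum_cons, zp_add hzz, lprod]
    calc Y g * (Y k * lprod Y L) = (Y g * Y k) * lprod Y L := by group
      _ = z ^ (bil al ta g k).val * (Y k * (Y g * lprod Y L)) := by rw [hY]; group
      _ = z ^ (bil al ta g k).val * ((Y k * z ^ ((L.map (bil al ta g)).sum).val) * (lprod Y L * Y g)) := by rw [ih]; group
      _ = _ := by
        rw [((show Commute z (Y k) from hz _).pow_left _).symm.eq]
        group

include hz hzz in
theorem lprod_cross (hY : ∀ g k, Y g * Y k = z ^ (bil al ta g k).val * (Y k * Y g)) :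
    ∀ L L', lprod Y L * lprod Y L' = z ^ (cross al ta L L').val * (lprod Y L' * lprod Y L) := by
  intro L L'
  induction L with
  | nil => simp [lprod, cross]
  | cons g L ih =>
    rw [cross, zp_add hzz, lprod]
    calc Y g * lprod Y L * lprod Y L' = Y g * (lprod Y L * lprod Y L') := by group
      _ = (Y g * z ^ (cross al ta L L').val) * (lprod Y L' * lprod Y L) := by rw [ih]; group
      _ = z ^ (cross al ta L L').val * (Y g * lprod Y L') * lprod Y L := by
        rw [((show Commute z (Y g) from hz _).pow_left _).symm.eq]; group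
      _ = (z ^ (cross al ta L L').val * z ^ ((L'.map (bil al ta g)).sum).val) * (lprod Y L' * (Y g * lprod Y L)) := by
        rw [lprod_one hz hzz hY g L']; group
      _ = _ := by rw [((Commute.refl z).pow_pow _ _).eq]

include hz hzz in
theorem lprod_quad (hY : ∀ g k, Y g * Y k = z ^ (bil al ta g k).val * (Y k * Y g))
    (hsq : ∀ g, Y g * Y g = z ^ ka.val) : ∀ L, lprod Y L * lprod Y L = z ^ (quad al ta ka L).val := by
  intro L
  induction L with
  | nil => simp [lprod, quad]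
  | cons g L ih =>
    set s := (L.map (bil al ta g)).sum with hs
    have h1 : lprod Y L * Y g = z ^ s.val * (Y g * lprod Y L) := by
      rw [lprod_one hz hzz hY g L, ← hs, ← mul_assoc, ← zp_add hzz, CharTwo.add_self_eq_zero, ZMod.val_zero,
        pow_zero, one_mul]
    rw [quad, zp_add hzz, zp_add hzz, lprod]
    calc Y g * lprod Y L * (Y g * lprod Y L) = Y g * (lprod Y L * Y g) * lprod Y L := by group
      _ = (Y g * z ^ s.val) * (Y g * (lprod Y L * lprod Y L)) := by rw [h1]; group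
      _ = z ^ s.val * (Y g * Y g) * (lprod Y L * lprod Y L) := by
        rw [((show Commute z (Y g) from hz _).pow_left _).symm.eq]; group
      _ = (z ^ s.val * z ^ ka.val) * z ^ (quad al ta ka L).val := by rw [hsq, ih]
      _ = _ := by rw [mul_assoc (z ^ ka.val), ← pow_add, ← pow_add, ← pow_add, ← pow_add]; congr 1; ring

end lists

variable {T : Type*} [Group T] [Finite T] {W : Subgroup T} {a b c : T}

local notation "Z[" i "]" => Subgroup.upperCentralSeries T i

/-- The image of `W` modulo `Z₃`. -/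
abbrev Vbar (W : Subgroup T) : Subgroup (T ⧸ (Subgroup.upperCentralSeries T 3)) :=
  W.map (QuotientGroup.mk' _)

theorem Vbar_comm (h : Cond T W) : ∀ x ∈ Vbar W, ∀ y ∈ Vbar W, x * y = y * x := by
  rintro _ ⟨x, hx, rfl⟩ _ ⟨y, hy, rfl⟩
  rw [← map_mul, ← map_mul]
  refine QuotientGroup.eq.2 ?_
  have := h.comm_mem (W.inv_mem hy) (W.inv_mem hx)
  rw [show (x * y)⁻¹ * (y * x) = y⁻¹ * x⁻¹ * y⁻¹⁻¹ * x⁻¹⁻¹ by group]
  exact this

theorem Vbar_sq (h : Cond T W) : ∀ x ∈ Vbar W, x * x = 1 := by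
  rintro _ ⟨x, hx, rfl⟩
  rw [← map_mul]
  exact (QuotientGroup.eq_one_iff _).2 (h.sq_mem hx)

theorem Vbar_card (h : Cond T W) : Nat.card ↥(Vbar W) = 256 := by
  let f : ↥W →* T ⧸ Z[3] := (QuotientGroup.mk' _).comp W.subtype
  have hr : f.range = Vbar W := by
    show f.range = W.map (QuotientGroup.mk' _)
    rw [MonoidHom.range_eq_map, ← map_map, ← MonoidHom.range_eq_map, range_subtype]
  have hker : f.ker = (Z[3]).subgroupOf W := by
    ext x; simp [f, mem_subgroupOf, MonoidHom.mem_ker]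
  have := card_mul_index f.ker
  rw [Subgroup.index_ker, hr, hker, Nat.card_congr (subgroupOfEquivOfLe h.z3_le).toEquiv,
    h.cardZ (by norm_num), h.main.2.1] at this
  omega

theorem Vbar_fixed (h : Cond T W) {e x : T} (he : e ∈ Z[4]) (he' : e ∉ Z[3]) (hxW : x ∈ W)
    (hx : ∀ y : T, QuotientGroup.mk' (Z[3]) y * QuotientGroup.mk' (Z[3]) x =
      QuotientGroup.mk' (Z[3]) x * QuotientGroup.mk' (Z[3]) y) :
    QuotientGroup.mk' (Z[3]) x = 1 ∨ QuotientGroup.mk' (Z[3]) x = QuotientGroup.mk' (Z[3]) e := by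
  have hx1 : x ∈ Z[4] := by
    refine Subgroup.mem_upperCentralSeries_succ_iff.2 fun y => ?_
    rw [← QuotientGroup.eq_one_iff, commutatorElement_def]
    show QuotientGroup.mk' (Z[3]) (x * y * x⁻¹ * y⁻¹) = 1
    rw [map_mul, map_mul, map_mul, map_inv, map_inv, ← hx y, mul_inv_cancel_right, mul_inv_cancel]
  rcases h.decomp (i := 3) (by norm_num) he he' hx1 with h1 | h1
  · exact Or.inl ((QuotientGroup.eq_one_iff x).2 h1)
  · exact Or.inr (QuotientGroup.eq.2 h1).symm

theorem center_aux (h : Cond T W) (F : Flag T a b c) (e : T) (heW : e ∈ W) (he3 : e ∉ Z[3]) (he4 : e ∈ Z[4])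
    (hec : ∀ w ∈ W, e * w = w * e) : False := by
  haveI := h.W_normal
  obtain ⟨eqv, heqv⟩ := h.exists_equiv F
  set τ := rep h F with hτ
  haveI : (Vbar W).Normal := h.W_normal.map _ (QuotientGroup.mk'_surjective _)
  set mk3 := QuotientGroup.mk' (Z[3]) with hmk3
  -- the projection onto the dihedral group
  let π : (T ⧸ Z[3]) →* DihedralGroup 4 :=
    eqv.symm.toMonoidHom.comp (QuotientGroup.map (Z[3]) W (MonoidHom.id T) h.z3_le)
  have hπτ : ∀ g, π (mk3 (τ g)) = g := fun g => by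
    show eqv.symm (QuotientGroup.mk (τ g)) = g
    rw [← heqv g, MulEquiv.symm_apply_apply]
  have hπker : ∀ x, π x = 1 ↔ x ∈ Vbar W := by
    intro x
    obtain ⟨y, rfl⟩ := QuotientGroup.mk'_surjective _ x
    show eqv.symm (QuotientGroup.mk y) = 1 ↔ _
    rw [map_eq_one_iff _ eqv.symm.injective, QuotientGroup.eq_one_iff]
    refine ⟨fun hy => ⟨y, hy, rfl⟩, ?_⟩
    rintro ⟨w, hw, hwy⟩
    have h1 := W.mul_mem hw (h.z3_le (QuotientGroup.eq.1 hwy))
    rwa [mul_inv_cancel_left] at h1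
  -- subgroups above `Vbar`
  set S1 : Subgroup (DihedralGroup 4) := zpowers (DihedralGroup.r 2) with hS1
  set S2 : Subgroup (DihedralGroup 4) := zpowers (DihedralGroup.r 1) with hS2
  let C : Subgroup (DihedralGroup 4) → Subgroup (T ⧸ Z[3]) :=
    fun S => Vbar W ⊓ centralizer (((S.comap π : Subgroup (T ⧸ Z[3]))) : Set (T ⧸ Z[3]))
  have hstep : ∀ S S' : Subgroup (DihedralGroup 4), ∀ g : DihedralGroup 4, (∀ x ∈ S, g⁻¹ * x * g ∈ S) →
      g * g ∈ S → S ≤ S' → g ∈ S' → (∀ x ∈ S', x ∈ S ∨ g⁻¹ * x ∈ S) →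
      Nat.card ↥(C S) ≤ Nat.card ↥(C S') ^ 2 ∧ (Nat.card ↥(C S) = Nat.card ↥(C S') ^ 2 →
        ∀ y ∈ C S', ∃ x ∈ C S, x * (mk3 (τ g) * x * (mk3 (τ g))⁻¹) = y) := by
    intro S S' g hn hgg hSS hgS hdec
    have heq : S.comap π ⊔ zpowers (mk3 (τ g)) = S'.comap π := by
      refine le_antisymm (sup_le (comap_mono hSS) (zpowers_le.2 (by rw [mem_comap, hπτ]; exact hgS))) ?_
      intro x hx
      rcases hdec _ (mem_comap.1 hx) with h1 | h1
      · exact mem_sup_left h1
      · rw [show x = mk3 (τ g) * ((mk3 (τ g))⁻¹ * x) by group]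
        refine mul_mem (mem_sup_right (mem_zpowers _)) (mem_sup_left ?_)
        rw [mem_comap, map_mul, map_inv, hπτ]; exact h1
    have := halve (Q := T ⧸ Z[3]) (V := Vbar W) (H := S.comap π) (Vbar_comm h) (Vbar_sq h) (t := mk3 (τ g))
      (fun x hx => by rw [mem_comap, map_mul, map_mul, map_inv, hπτ]; exact hn _ hx)
      (by rw [mem_comap, map_mul, hπτ]; exact hgg)
    rw [heq] at this
    exact this
  have hz1 : ∀ x : DihedralGroup 4, x ∈ S1 ↔ x = 1 ∨ x = DihedralGroup.r 2 := by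
    intro x
    rw [hS1, ← mem_powers_iff_mem_zpowers]
    constructor
    · rintro ⟨n, rfl⟩
      show (DihedralGroup.r 2) ^ n = 1 ∨ (DihedralGroup.r 2) ^ n = DihedralGroup.r 2
      rcases Nat.even_or_odd' n with ⟨m, rfl | rfl⟩
      · left; rw [pow_mul]; exact one_pow m
      · right; rw [pow_succ, pow_mul]; show 1 ^ m * _ = _; rw [one_pow, one_mul]
    · rintro (rfl | rfl)
      · exact one_mem _
      · exact ⟨1, pow_one _⟩
  have hz2 : ∀ x : DihedralGroup 4, x ∈ S2 ↔ ∃ i, x = DihedralGroup.r i := by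
    intro x
    rw [hS2, ← mem_powers_iff_mem_zpowers]
    constructor
    · rintro ⟨n, rfl⟩
      exact ⟨n, DihedralGroup.r_one_pow n⟩
    · rintro ⟨i, rfl⟩
      exact ⟨i.val, (DihedralGroup.r_one_pow _).trans (by rw [ZMod.natCast_zmod_val])⟩
  obtain ⟨b01, s01⟩ := hstep ⊥ S1 (DihedralGroup.r 2)
    (fun x hx => by rw [mem_bot] at hx ⊢; subst hx; decide) (by rw [mem_bot]; decide) bot_le (mem_zpowers _)
    (fun x hx => by simp only [mem_bot]; rw [hz1] at hx; revert hx; revert x; decide)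
  obtain ⟨b12, s12⟩ := hstep S1 S2 (DihedralGroup.r 1)
    (fun x hx => by rw [hz1] at hx ⊢; revert hx; revert x; decide) (by rw [hz1]; decide)
    (fun x hx => by rw [hz1] at hx; rw [hz2]; revert hx; revert x; decide) (mem_zpowers _)
    (fun x hx => by rw [hz2] at hx; rw [hz1, hz1]; revert hx; revert x; decide)
  obtain ⟨b23, s23⟩ := hstep S2 ⊤ (DihedralGroup.sr 0)
    (fun x hx => by rw [hz2] at hx ⊢; revert hx; revert x; decide) (by rw [hz2]; decide)
    le_top (mem_top _) (fun x _ => by rw [hz2, hz2]; exact (show ∀ x : DihedralGroup 4, (∃ i, x = DihedralGroup.r i) ∨ ∃ i, (DihedralGroup.sr 0)⁻¹ * x = DihedralGroup.r i by decide) x)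
  have htop : ∀ v ∈ C ⊤, v = 1 ∨ v = mk3 e := by
    rintro _ ⟨⟨x, hx, rfl⟩, hcx⟩
    refine Vbar_fixed h he4 he3 hx fun y => mem_centralizer_iff.1 hcx _ ?_
    rw [comap_top]; exact mem_top _
  have hc3 : Nat.card ↥(C ⊤) ≤ 2 := by
    classical
    refine le_trans (Nat.card_mono (Set.toFinite ({1, mk3 e} : Set (T ⧸ Z[3]))) (fun v hv => htop v hv)) ?_
    rw [Nat.card_coe_set_eq]
    exact (Set.ncard_insert_le _ _).trans (by simp)
  have hc0 : Nat.card ↥(C ⊥) = 256 := by
    rw [← Vbar_card h]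
    have : C ⊥ = Vbar W := inf_eq_left.2 fun x hx => mem_centralizer_iff.2 fun y hy => by
      rw [SetLike.mem_coe, mem_comap, mem_bot, hπker] at hy
      exact Vbar_comm h y hy x hx
    rw [this]
  have h2le : Nat.card ↥(C S2) ≤ 4 := b23.trans ((Nat.pow_le_pow_left hc3 2).trans (by norm_num))
  have h1le : Nat.card ↥(C S1) ≤ 16 := b12.trans ((Nat.pow_le_pow_left h2le 2).trans (by norm_num))
  have h0le := b01
  rw [hc0] at h0le
  have h1eq : Nat.card ↥(C S1) = 16 := by
    by_contra hne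
    have := Nat.pow_le_pow_left (show Nat.card ↥(C S1) ≤ 15 by omega) 2
    omega
  have h2eq : Nat.card ↥(C S2) = 4 := by
    by_contra hne
    have := Nat.pow_le_pow_left (show Nat.card ↥(C S2) ≤ 3 by omega) 2
    omega
  have h3eq : Nat.card ↥(C ⊤) = 2 := by
    by_contra hne
    have := Nat.pow_le_pow_left (show Nat.card ↥(C ⊤) ≤ 1 by omega) 2
    omega
  have heC : mk3 e ∈ C ⊤ := by
    refine ⟨⟨e, heW, rfl⟩, mem_centralizer_iff.2 fun y _ => ?_⟩
    obtain ⟨y, rfl⟩ := QuotientGroup.mk'_surjective _ y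
    have h1 := (QuotientGroup.eq_one_iff _).2 (Subgroup.mem_upperCentralSeries_succ_iff.1 he4 y)
    rw [commutatorElement_def] at h1
    have h2 : mk3 (e * y * e⁻¹ * y⁻¹) = 1 := h1
    rw [map_mul, map_mul, map_mul, map_inv, map_inv, mul_inv_eq_one, mul_inv_eq_iff_eq_mul] at h2
    exact h2.symm
  obtain ⟨u2, hu2, hu2'⟩ := s23 (by rw [h2eq, h3eq]; norm_num) _ heC
  obtain ⟨u1, hu1, hu1'⟩ := s12 (by rw [h1eq, h2eq]; norm_num) _ hu2
  obtain ⟨u0, hu0, hu0'⟩ := s01 (by rw [hc0, h1eq]; norm_num) _ hu1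
  obtain ⟨x0, hx0, rfl⟩ := hu0.1
  -- the regular module
  let X : DihedralGroup 4 → T := fun g => τ g * x0 * (τ g)⁻¹
  have hXW : ∀ g, X g ∈ W := fun g => h.W_normal.conj_mem x0 hx0 _
  have hconjV : ∀ (q q' : T ⧸ Z[3]), π q = π q' → ∀ v ∈ Vbar W, q * v * q⁻¹ = q' * v * q'⁻¹ := by
    intro q q' hq v hv
    have hd : q'⁻¹ * q ∈ Vbar W := by rw [← hπker, map_mul, map_inv, hq, inv_mul_cancel]
    have := Vbar_comm h _ hd v hv
    calc q * v * q⁻¹ = q' * (q'⁻¹ * q * v) * q⁻¹ := by group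
      _ = q' * (v * (q'⁻¹ * q)) * q⁻¹ := by rw [this]
      _ = _ := by group
  have hXbar : ∀ g g', mk3 (τ g) * mk3 (X g') * (mk3 (τ g))⁻¹ = mk3 (X (g * g')) := by
    intro g g'
    have := hconjV (mk3 (τ g) * mk3 (τ g')) (mk3 (τ (g * g'))) (by rw [map_mul, hπτ, hπτ, hπτ]) (mk3 x0) ⟨x0, hx0, rfl⟩
    simp only [X, map_mul, map_inv]
    rw [← this]; group
  letI hCG : CommGroup ↥(Vbar W) :=
    { (inferInstance : Group ↥(Vbar W)) with mul_comm := fun u v => Subtype.ext (Vbar_comm h u u.2 v v.2) }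
  let xv : DihedralGroup 4 → ↥(Vbar W) := fun g => ⟨mk3 (X g), ⟨X g, hXW g, rfl⟩⟩
  let Φ : (DihedralGroup 4 → ZMod 2) → ↥(Vbar W) := fun ε => ∏ g, xv g ^ (ε g).val
  have hpow : ∀ (v : ↥(Vbar W)) (m n : ZMod 2), v ^ (m + n).val = v ^ m.val * v ^ n.val := by
    intro v m n
    rw [← pow_add, ZMod.val_add, ← pow_eq_pow_mod _ (by rw [pow_two]; exact Subtype.ext (Vbar_sq h v v.2))]
  have hΦadd : ∀ ε ε', Φ (ε + ε') = Φ ε * Φ ε' := fun ε ε' => by
    simp only [Φ, Pi.add_apply, hpow, Finset.prod_mul_distrib]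
  have hΦzero : Φ 0 = 1 := by simp [Φ]
  have hΦshift : ∀ (g : DihedralGroup 4) ε,
      mk3 (τ g) * (Φ ε : T ⧸ Z[3]) * (mk3 (τ g))⁻¹ = (Φ (fun x => ε (g⁻¹ * x)) : T ⧸ Z[3]) := by
    intro g ε
    let cj : ↥(Vbar W) →* ↥(Vbar W) := MonoidHom.mk'
      (fun v => ⟨mk3 (τ g) * v * (mk3 (τ g))⁻¹, (inferInstance : (Vbar W).Normal).conj_mem _ v.2 _⟩)
      (fun u v => Subtype.ext (by show mk3 (τ g) * ((u : T ⧸ Z[3]) * v) * _ = _ * _; group))
    show ((cj (Φ ε) : ↥(Vbar W)) : T ⧸ Z[3]) = _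
    congr 1
    simp only [Φ, map_prod, map_pow]
    refine Fintype.prod_equiv (Equiv.mulLeft g) _ _ fun x => ?_
    have hx : cj (xv x) = xv (g * x) := Subtype.ext (hXbar g x)
    rw [hx, Equiv.coe_mulLeft, inv_mul_cancel_left]
  have hall : (Φ 1 : T ⧸ Z[3]) = mk3 e := by
    rw [← hu2', ← hu1', ← hu0']
    have hone : mk3 (X 1) = mk3 x0 := by
      have := hconjV (mk3 (τ 1)) 1 (by rw [hπτ, map_one]) (mk3 x0) ⟨x0, hx0, rfl⟩
      simp only [X, map_mul, map_inv]
      rw [this]; group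
    let single : DihedralGroup 4 → DihedralGroup 4 → ZMod 2 := fun g x => if g = x then 1 else 0
    have hsingle : ∀ g, Φ (single g) = xv g := by
      intro g
      show (∏ x, xv x ^ (single g x).val) = _
      rw [Finset.prod_eq_single g]
      · simp [single, ZMod.val_one]
      · intro x _ hx; simp [single, Ne.symm hx]
      · simp
    have step : ∀ (ε : DihedralGroup 4 → ZMod 2) g, (Φ ε : T ⧸ Z[3]) * (mk3 (τ g) * (Φ ε : T ⧸ Z[3]) * (mk3 (τ g))⁻¹) =
        (Φ (ε + fun x => ε (g⁻¹ * x)) : T ⧸ Z[3]) := fun ε g => by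
      rw [hΦshift, hΦadd]; rfl
    have e0 : (Φ (single 1) : T ⧸ Z[3]) = mk3 x0 := by rw [hsingle]; exact hone
    rw [← e0, step, step, step]
    congr 2
    funext x
    revert x
    decide
  have hinj : ∀ ε, Φ ε = 1 → ε = 0 := by
    intro ε hε
    by_contra hne
    have stepK : ∀ (g : DihedralGroup 4) δ, Φ δ = 1 → Φ (δ + fun x => δ (g⁻¹ * x)) = 1 := by
      intro g δ hδ
      rw [hΦadd, hδ, one_mul]
      apply Subtype.ext
      rw [← hΦshift, hδ]
      show mk3 (τ g) * 1 * (mk3 (τ g))⁻¹ = 1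
      group
    have hpush : ∀ g δ, Φ δ = 1 → Φ (push g δ) = 1 := by
      intro g δ hδ
      unfold push
      split
      · exact hδ
      · exact stepK g δ hδ
    have c1 := hpush (DihedralGroup.sr 1) _ (hpush (DihedralGroup.sr 0) _ (hpush (DihedralGroup.r 2) ε hε))
    rw [push_all ε hne] at c1
    rw [c1] at hall
    exact he3 ((QuotientGroup.eq_one_iff e).1 hall.symm)
  -- the quotient by `Z₂`
  classical
  set mk2 := QuotientGroup.mk' (Z[2]) with hmk2
  have h23 := Subgroup.upperCentralSeries_mono T (show 2 ≤ 3 by norm_num)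
  have hmk2_eq : ∀ u v : T, mk2 u = mk2 v ↔ u⁻¹ * v ∈ Z[2] := fun u v => QuotientGroup.eq
  set z := mk2 a with hzdef
  have hcen3 : ∀ k ∈ Z[3], ∀ q : T ⧸ Z[2], mk2 k * q = q * mk2 k := by
    intro k hk q
    obtain ⟨u, rfl⟩ := QuotientGroup.mk'_surjective _ q
    have h1 : mk2 (u * k * u⁻¹ * k⁻¹) = 1 := (QuotientGroup.eq_one_iff _).2 (conj_step hk u)
    rw [map_mul, map_mul, map_mul, map_inv, map_inv, mul_inv_eq_one, mul_inv_eq_iff_eq_mul] at h1
    exact h1.symm
  have hzc : ∀ q : T ⧸ Z[2], z * q = q * z := hcen3 a F.a3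
  have hzz : z * z = 1 := by rw [hzdef, ← map_mul, h.elem F.a3, map_one]
  have hz1 : z ≠ 1 := fun he => F.a2 ((QuotientGroup.eq_one_iff a).1 he)
  let ex : T → ZMod 2 := fun k => if mk2 k = 1 then 0 else 1
  have hex : ∀ k ∈ Z[3], mk2 k = z ^ (ex k).val := by
    intro k hk
    by_cases h1 : mk2 k = 1
    · simp [ex, h1]
    · simp only [ex, h1, if_false, ZMod.val_one, pow_one]
      rcases h.decomp (i := 2) (by norm_num) F.a3 F.a2 hk with h2 | h2
      · exact absurd ((QuotientGroup.eq_one_iff k).2 h2) h1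
      · exact ((hmk2_eq a k).2 h2).symm
  let cm : T → T → T := fun u v => u * v * u⁻¹ * v⁻¹
  have hcmW : ∀ g k, cm (X g) (X k) ∈ Z[3] := fun g k => h.comm_mem (hXW g) (hXW k)
  have hshift : ∀ g k, (X (g * k))⁻¹ * (τ g * X k * (τ g)⁻¹) ∈ Z[3] := by
    intro g k
    have := (hXbar g k).symm
    rw [← map_inv, ← map_mul, ← map_mul] at this
    exact QuotientGroup.eq.1 this
  have hcmEq : ∀ u v ζ ξ : T, u ∈ W → v ∈ W → ζ ∈ Z[3] → ξ ∈ Z[3] → cm (u * ζ) (v * ξ) = cm u v := by
    intro u v ζ ξ hu hv hζ hξ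
    have c1 : ζ * v = v * ζ := h.W_comm hv hζ
    have c2 : ξ * u⁻¹ = u⁻¹ * ξ := h.W_comm (W.inv_mem hu) hξ
    have c3 : ξ * ζ⁻¹ = ζ⁻¹ * ξ := h.z3_comm hξ (inv_mem hζ)
    show u * ζ * (v * ξ) * (u * ζ)⁻¹ * (v * ξ)⁻¹ = u * v * u⁻¹ * v⁻¹
    calc u * ζ * (v * ξ) * (u * ζ)⁻¹ * (v * ξ)⁻¹ = u * (ζ * v) * (ξ * ζ⁻¹) * u⁻¹ * ξ⁻¹ * v⁻¹ := by group
      _ = u * v * (ξ * u⁻¹) * ξ⁻¹ * v⁻¹ := by rw [c1, c3]; group
      _ = u * v * u⁻¹ * v⁻¹ := by rw [c2]; group
  have hcmConj : ∀ g m k, cm (X (g * m)) (X (g * k)) = τ g * cm (X m) (X k) * (τ g)⁻¹ := by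
    intro g m k
    rw [← hcmEq (X (g * m)) (X (g * k)) _ _ (hXW _) (hXW _) (hshift g m) (hshift g k),
      mul_inv_cancel_left, mul_inv_cancel_left]
    simp only [cm]; group
  have hinv2 : ∀ u v, u ∈ W → v ∈ W → cm v u = cm u v := by
    intro u v hu hv
    rw [show cm v u = (cm u v)⁻¹ by simp only [cm]; group]
    exact inv_eq_of_mul_eq_one_left (h.elem (h.comm_mem hu hv))
  let β : DihedralGroup 4 → ZMod 2 := fun g => ex (cm (X 1) (X g))
  have hmk2conj : ∀ k ∈ Z[3], ∀ u : T, mk2 (u * k * u⁻¹) = mk2 k := by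
    intro k hk u
    rw [map_mul, map_mul, map_inv, ← hcen3 k hk (mk2 u), mul_inv_cancel_right]
  have hβ : ∀ g k, mk2 (cm (X g) (X k)) = z ^ (β (g⁻¹ * k)).val := by
    intro g k
    rw [← hex _ (hcmW 1 (g⁻¹ * k)), ← hmk2conj _ (hcmW 1 (g⁻¹ * k)) (τ g), ← hcmConj, mul_one, mul_inv_cancel_left]
  have hβsymm : ∀ g, β g⁻¹ = β g := by
    intro g
    have hexcongr : ∀ u v, mk2 u = mk2 v → ex u = ex v := fun u v huv => by simp only [ex, huv]
    refine hexcongr _ _ ?_
    rw [← hmk2conj _ (hcmW 1 g⁻¹) (τ g), ← hcmConj, mul_one, mul_inv_cancel, hinv2 _ _ (hXW 1) (hXW g)]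
  have hβzero : ∀ g : DihedralGroup 4, g * g = 1 → (tab g).2.2 = 0 → β g = 0 := by
    intro g hgg htab
    by_cases hk : mk2 (cm (X 1) (X g)) = 1
    · simp [β, ex, hk]
    exfalso
    set k := cm (X 1) (X g) with hkdef
    have hk3 : k ∈ Z[3] := hcmW 1 g
    have hk2 : k ∉ Z[2] := fun hh => hk ((QuotientGroup.eq_one_iff k).2 hh)
    have hfix : τ g * k * (τ g)⁻¹ = k := by
      rw [hkdef, ← hcmConj, mul_one, hgg, hinv2 _ _ (hXW 1) (hXW g)]
    have hb : τ g * b * (τ g)⁻¹ = b := by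
      rw [(rep_acts h F g).2, htab]; simp [flagElt]
    have F' : Flag T k b c := ⟨hk3, hk2, F.b2, F.b1, F.c1, F.c0⟩
    have hW' := h.mem_W_of_fix F' (mul_inv_eq_iff_eq_mul.1 hfix) (mul_inv_eq_iff_eq_mul.1 hb)
    have hg1 : g = 1 := by
      rw [← hπτ g, hπker]; exact ⟨_, hW', rfl⟩
    subst hg1
    exact hk (by simp [k, cm])
  have hβone : β 1 = 0 := by
    simp [β, ex, cm]
  set al := β (DihedralGroup.r 1) with hal
  set ta := β (DihedralGroup.sr 0) with hta
  set ka := ex (x0 * x0) with hka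
  let Y : DihedralGroup 4 → T ⧸ Z[2] := fun g => mk2 (X g)
  have hY0 : ∀ g k, Y g * Y k = z ^ (β (g⁻¹ * k)).val * (Y k * Y g) := by
    intro g k
    rw [← hβ]
    simp only [Y, ← map_mul]
    congr 1
    simp only [cm]; group
  -- the sum of the form over the group vanishes
  have hsum : β (DihedralGroup.sr 2) = ta := by
    set P := X (.r 0) * X (.r 1) * X (.r 2) * X (.r 3) * X (.sr 0) * X (.sr 1) * X (.sr 2) * X (.sr 3) with hP
    have hPbar : mk3 P = mk3 e := by
      rw [← hall]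
      have hu : ∀ f : DihedralGroup 4 → ↥(Vbar W), ∏ g, f g = f (.r 0) * f (.r 1) * f (.r 2) * f (.r 3) *
          f (.sr 0) * f (.sr 1) * f (.sr 2) * f (.sr 3) := by
        intro f
        rw [show (Finset.univ : Finset (DihedralGroup 4)) =
          {.r 0, .r 1, .r 2, .r 3, .sr 0, .sr 1, .sr 2, .sr 3} by decide]
        iterate 7 rw [Finset.prod_insert (by decide)]
        simp only [Finset.prod_singleton, mul_assoc]
      simp only [Φ, Pi.one_apply, ZMod.val_one, pow_one, hu, hP, map_mul]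
      rfl
    have hPW : P ∈ W := by
      simp only [hP]; exact mul_mem (mul_mem (mul_mem (mul_mem (mul_mem (mul_mem (mul_mem (hXW _) (hXW _)) (hXW _)) (hXW _)) (hXW _)) (hXW _)) (hXW _)) (hXW _)
    have hζ : e⁻¹ * P ∈ Z[3] := QuotientGroup.eq.1 hPbar.symm
    have hPc : X 1 * P = P * X 1 := by
      calc X 1 * P = (X 1 * e) * (e⁻¹ * P) := by group
        _ = e * (X 1 * (e⁻¹ * P)) := by rw [← hec _ (hXW 1)]; group
        _ = e * (e⁻¹ * P * X 1) := by rw [h.W_comm (hXW 1) hζ]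
        _ = P * X 1 := by group
    have h2 : Y 1 * mk2 P = mk2 P * Y 1 := by
      show mk2 (X 1) * mk2 P = mk2 P * mk2 (X 1)
      rw [← map_mul, hPc, map_mul]
    have hYP : mk2 P = Y (.r 0) * Y (.r 1) * Y (.r 2) * Y (.r 3) * Y (.sr 0) * Y (.sr 1) * Y (.sr 2) * Y (.sr 3) := by
      simp only [hP, map_mul, Y]
    have hone : ∀ (g : DihedralGroup 4) (R : T ⧸ Z[2]) (m : ZMod 2), Y 1 * R = z ^ m.val * (R * Y 1) →
        Y 1 * (R * Y g) = z ^ (m + β g).val * (R * Y g * Y 1) := by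
      intro g R m hm
      calc Y 1 * (R * Y g) = z ^ m.val * (R * (Y 1 * Y g)) := by rw [← mul_assoc, hm]; group
        _ = z ^ m.val * ((R * z ^ (β g).val) * (Y g * Y 1)) := by rw [hY0 1 g, inv_one, one_mul]; group
        _ = z ^ m.val * z ^ (β g).val * (R * Y g * Y 1) := by
          rw [((show Commute z R from hzc _).pow_left _).symm.eq]; group
        _ = _ := by rw [zp_add hzz]
    have e0 : Y 1 * Y (.r 0) = z ^ (β (.r 0)).val * (Y (.r 0) * Y 1) := by
      rw [hY0 1 (.r 0), inv_one, one_mul]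
    have e7 := hone (.sr 3) _ _ (hone (.sr 2) _ _ (hone (.sr 1) _ _ (hone (.sr 0) _ _ (hone (.r 3) _ _ (hone (.r 2) _ _ (hone (.r 1) _ _ e0))))))
    rw [← hYP, h2] at e7
    have hzero := mul_eq_right.1 e7.symm
    have hcases : ∀ m : ZMod 2, z ^ m.val = 1 → m = 0 := by
      intro m hm
      rcases (show ∀ m : ZMod 2, m = 0 ∨ m = 1 by decide) m with rfl | rfl
      · rfl
      · rw [ZMod.val_one, pow_one] at hm; exact absurd hm hz1
    have hS := hcases _ hzero
    rw [show β (.r 0) = 0 from hβone, hβzero (.r 2) (by decide) rfl, hβzero (.sr 1) (by decide) rfl,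
      hβzero (.sr 3) (by decide) rfl, show β (.r 3) = al by rw [hal, ← hβsymm]; congr 1] at hS
    have : ∀ p q r : ZMod 2, 0 + p + 0 + p + q + 0 + r + 0 = 0 → r = q := by decide
    exact this _ _ _ hS
  have hβeq : ∀ g, β g = beta al ta g := by
    intro g
    have e0 : β (.r 0) = 0 := hβone
    have e3 : β (.r 3) = al := by rw [hal, ← hβsymm]; congr 1
    rcases g with i | i <;> fin_cases i
    · exact e0
    · rfl
    · exact hβzero (.r 2) (by decide) rfl
    · exact e3
    · rfl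
    · exact hβzero (.sr 1) (by decide) rfl
    · exact hsum
    · exact hβzero (.sr 3) (by decide) rfl
  have hY : ∀ g k, Y g * Y k = z ^ (bil al ta g k).val * (Y k * Y g) := fun g k => by
    rw [hY0, hβeq]; rfl
  have hYsq : ∀ g, Y g * Y g = z ^ ka.val := by
    intro g
    rw [← hex _ (h.sq_mem hx0), ← hmk2conj _ (h.sq_mem hx0) (τ g)]
    simp only [Y, ← map_mul, X]
    congr 1; group
  -- the singular subgroup
  set u : Fin 5 → T ⧸ Z[2] := fun j => lprod Y (five al ta ka j) with hu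
  set R := closure (Set.range u) with hR
  have huu : ∀ j, u j * u j = 1 := fun j => by
    rw [hu, lprod_quad hzc hzz hY hYsq, five_quad, ZMod.val_zero, pow_zero]
  have huc : ∀ i j, u i * u j = u j * u i := fun i j => by
    rw [hu, lprod_cross hzc hzz hY, five_cross, ZMod.val_zero, pow_zero, one_mul]
  have hRc : ∀ p ∈ R, ∀ q ∈ R, p * q = q * p := by
    have h1 : R ≤ centralizer (Set.range u) := (closure_le _).2 (by
      rintro _ ⟨i, rfl⟩
      exact mem_centralizer_iff.2 (by rintro _ ⟨j, rfl⟩; exact huc j i))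
    have h2 : R ≤ centralizer (R : Set (T ⧸ Z[2])) := (closure_le _).2 (by
      rintro _ ⟨i, rfl⟩
      exact mem_centralizer_iff.2 fun q hq => (mem_centralizer_iff.1 (h1 hq) _ ⟨i, rfl⟩).symm)
    exact fun p hp q hq => mem_centralizer_iff.1 (h2 hq) p hp
  letI hRG : CommGroup ↥R := { (inferInstance : Group ↥R) with mul_comm := fun p q => Subtype.ext (hRc p p.2 q q.2) }
  let uR : Fin 5 → ↥R := fun j => ⟨u j, subset_closure ⟨j, rfl⟩⟩
  let ψ : (Fin 5 → ZMod 2) → ↥R := fun d => ∏ j, uR j ^ (d j).val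
  let p23 : (T ⧸ Z[2]) →* T ⧸ Z[3] := QuotientGroup.map (Z[2]) (Z[3]) (MonoidHom.id T) h23
  have hp23 : ∀ x : T, p23 (mk2 x) = mk3 x := fun x => rfl
  have hsingle : ∀ g, (Φ (fun x => if g = x then 1 else 0) : T ⧸ Z[3]) = mk3 (X g) := by
    intro g
    show ((∏ x, xv x ^ (if g = x then (1 : ZMod 2) else 0).val : ↥(Vbar W)) : T ⧸ Z[3]) = _
    rw [Finset.prod_eq_single g]
    · simp [ZMod.val_one, xv]
    · intro x _ hx; simp [Ne.symm hx]
    · simp
  have hlp : ∀ L, p23 (lprod Y L) = (Φ (parity L) : T ⧸ Z[3]) := by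
    intro L
    induction L with
    | nil =>
      rw [lprod, map_one, show parity [] = 0 from rfl, hΦzero]; rfl
    | cons g L ih =>
      rw [lprod, map_mul, ih, show parity (g :: L) = (fun x => if g = x then 1 else 0) + parity L from rfl,
        hΦadd, Subgroup.coe_mul, hsingle, hp23]
  let lin : (Fin 5 → ZMod 2) → (DihedralGroup 4 → ZMod 2) := fun d x => ∑ j, d j * parity (five al ta ka j) x
  have hψimg : ∀ d, p23 (ψ d : T ⧸ Z[2]) = (Φ (lin d) : T ⧸ Z[3]) := by
    intro d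
    let Φh : Multiplicative (DihedralGroup 4 → ZMod 2) →* ↥(Vbar W) :=
      MonoidHom.mk' (fun m => Φ m.toAdd) (fun m n => hΦadd _ _)
    have e1 : lin d = ∑ j, fun x => d j * parity (five al ta ka j) x := by
      funext x; simp [lin, Finset.sum_apply]
    have e2 : Φ (lin d) = ∏ j, Φ (fun x => d j * parity (five al ta ka j) x) := by
      rw [e1]
      exact map_prod Φh (fun j => Multiplicative.ofAdd (fun x => d j * parity (five al ta ka j) x)) Finset.univ
    rw [e2]
    have hmem : ∀ p : ↥R, p23.comp R.subtype p ∈ Vbar W := by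
      have h1 : R ≤ (Vbar W).comap p23 := (closure_le _).2 (by
        rintro _ ⟨j, rfl⟩
        show p23 (lprod Y (five al ta ka j)) ∈ Vbar W
        rw [hlp]; exact SetLike.coe_mem _)
      exact fun p => h1 p.2
    let cR : ↥R →* ↥(Vbar W) := (p23.comp R.subtype).codRestrict (Vbar W) hmem
    show ((cR (∏ j, uR j ^ (d j).val) : ↥(Vbar W)) : T ⧸ Z[3]) = _
    congr 1
    rw [map_prod]
    refine Finset.prod_congr rfl fun j _ => ?_
    rcases (show ∀ m : ZMod 2, m = 0 ∨ m = 1 by decide) (d j) with h1 | h1 <;> rw [h1]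
    · simp only [ZMod.val_zero, pow_zero, map_one, zero_mul]
      exact hΦzero.symm
    · simp only [ZMod.val_one, pow_one, one_mul]
      exact Subtype.ext (hlp _)
  have hψinj : ∀ d, p23 (ψ d : T ⧸ Z[2]) = 1 → d = 0 := by
    intro d hd
    rw [hψimg] at hd
    exact five_indep al ta ka d (fun x => congrFun (hinj _ (Subtype.ext hd)) x)
  have hψadd : ∀ d d', ψ (d + d') = ψ d * ψ d' := by
    intro d d'
    simp only [ψ, Pi.add_apply, ← Finset.prod_mul_distrib]
    refine Finset.prod_congr rfl fun j _ => ?_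
    exact zp_add (Subtype.ext (huu j)) _ _
  have hψzero : ψ 0 = 1 := by simp [ψ]
  have hsurj : ∀ p : ↥R, ∃ d, ψ d = p := by
    rintro ⟨p, hp⟩
    induction hp using Subgroup.closure_induction with
    | mem x hx =>
      obtain ⟨j, rfl⟩ := hx
      refine ⟨Pi.single j 1, ?_⟩
      show (∏ i, uR i ^ ((Pi.single j 1 : Fin 5 → ZMod 2) i).val) = _
      rw [Finset.prod_eq_single j]
      · simp [uR, ZMod.val_one]
      · intro i _ hi; simp [Pi.single_eq_of_ne hi]
      · simp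
    | one => exact ⟨0, hψzero⟩
    | mul x y hx hy ihx ihy =>
      obtain ⟨d, hd⟩ := ihx
      obtain ⟨d', hd'⟩ := ihy
      exact ⟨d + d', by rw [hψadd, hd, hd']; rfl⟩
    | inv x hx ih =>
      obtain ⟨d, hd⟩ := ih
      refine ⟨d, ?_⟩
      have h1 : ψ d * ψ d = 1 := by
        rw [← hψadd, show d + d = 0 from funext fun j => CharTwo.add_self_eq_zero _, hψzero]
      rw [← inv_eq_of_mul_eq_one_left h1, hd]
      rfl
  have hzR : z ∉ R := by
    intro hz'
    obtain ⟨d, hd⟩ := hsurj ⟨z, hz'⟩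
    have h1 : p23 (ψ d : T ⧸ Z[2]) = 1 := by
      rw [show (ψ d : T ⧸ Z[2]) = z from congrArg Subtype.val hd, hzdef, hp23]; exact (QuotientGroup.eq_one_iff a).2 F.a3
    rw [hψinj d h1, hψzero] at hd
    exact hz1 (congrArg Subtype.val hd).symm
  have hRcard : 32 ≤ Nat.card ↥R := by
    have hi : Function.Injective ψ := by
      intro d d' hdd
      have h1 : ψ (d + d') = 1 := by
        rw [hψadd, hdd, ← hψadd, show d' + d' = 0 from funext fun j => CharTwo.add_self_eq_zero _, hψzero]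
      have h2 := hψinj _ (by rw [h1]; exact map_one p23)
      funext j
      exact (show ∀ p q : ZMod 2, p + q = 0 → p = q by decide) _ _ (congrFun h2 j)
    have := Nat.card_le_card_of_injective ψ hi
    simpa using this
  set U := R.comap mk2 with hU
  have hUW : U ≤ W := by
    have hYW : ∀ L, lprod Y L ∈ W.map mk2 := by
      intro L
      induction L with
      | nil => rw [lprod]; exact one_mem _
      | cons g L ih => rw [lprod]; exact mul_mem ⟨X g, hXW g, rfl⟩ ih
    have hRW : R ≤ W.map mk2 := (closure_le _).2 (by rintro _ ⟨j, rfl⟩; exact hYW _)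
    intro x hx
    obtain ⟨w, hw, hwx⟩ := hRW hx
    have := W.mul_mem hw (h.z3_le (h23 ((hmk2_eq w x).1 hwx)))
    rwa [mul_inv_cancel_left] at this
  have hUcard : 128 ≤ Nat.card ↥U := by
    have h1 := card_mul_index U
    have h2 := card_mul_index R
    have h3 : U.index = R.index := index_comap_of_surjective R (QuotientGroup.mk'_surjective _)
    have h4 := card_eq_card_quotient_mul_card_subgroup (Z[2])
    rw [h.cardZ (by norm_num), ← h2, ← h1, h3] at h4
    have hpos : 0 < R.index := Nat.pos_of_ne_zero index_ne_zero_of_finite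
    have h5 : Nat.card ↥U = Nat.card ↥R * 2 ^ 2 :=
      Nat.eq_of_mul_eq_mul_right hpos (h4.trans (by ring))
    omega
  have hrel : U.relIndex W ≤ 16 := by
    have h1 := card_mul_index (U.subgroupOf W)
    rw [Nat.card_congr (subgroupOfEquivOfLe hUW).toEquiv, h.main.2.1] at h1
    rw [relIndex]
    by_contra hne
    have := Nat.mul_le_mul hUcard (show 17 ≤ (U.subgroupOf W).index by omega)
    omega
  exact hzR (h.deep' hrel F.a3)

/-- The centre of `W` is `Z₃`. -/
theorem Cond.center_eq (h : Cond T W) : (Subgroup.center ↥W).map W.subtype = Z[3] := by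
  haveI := h.W_normal
  haveI : ((Subgroup.center ↥W).map W.subtype).Normal := ConjAct.normal_of_characteristic_of_normal
  haveI : Group.IsNilpotent T := by
    haveI : Fact (Nat.Prime 2) := ⟨Nat.prime_two⟩
    exact h.two.isNilpotent
  refine le_antisymm ?_ fun x hx => ⟨⟨x, h.z3_le hx⟩, mem_center_iff.2 fun w => Subtype.ext (h.W_comm w.2 hx).symm, rfl⟩
  by_contra hnot
  obtain ⟨x, ⟨⟨x', hxW⟩, hx', rfl⟩, hx4, hx3⟩ := exists_mem_succ hnot
  obtain ⟨a, b, c, F⟩ := h.flag
  exact center_aux h F x' hxW hx3 hx4 fun w hw => (congrArg Subtype.val (mem_center_iff.1 hx' ⟨w, hw⟩)).symm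

end Cfsg.Lib.RudSylow
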