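import Cfsg.Agent.Lib.Local.RudSylow.Structure

/-!
# Two-groups with a short upper central series: the quotient by `W`
-/

set_option autoImplicit false

open Subgroup

namespace Cfsg.Lib.RudSylow

/-- The exponents of the images of the flag: `a ↦ b^i c^j a`, `b ↦ c^k b`. -/
def tab : DihedralGroup 4 → ZMod 2 × ZMod 2 × ZMod 2
  | .r i => ![(0, 0, 0), (1, 0, 1), (0, 1, 0), (1, 1, 1)] i
  | .sr i => ![(0, 0, 1), (1, 1, 0), (0, 1, 1), (1, 0, 0)] i

theorem tab_mul : ∀ g h : DihedralGroup 4, tab (g * h) =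
    ((tab g).1 + (tab h).1, (tab g).2.1 + (tab h).2.1 + (tab g).2.2 * (tab h).1, (tab g).2.2 + (tab h).2.2) := by
  decide

theorem tab_injective : Function.Injective tab := by
  intro g h
  revert g h
  decide

variable {T : Type*} [Group T] [Finite T] {W : Subgroup T} {a b c : T}

local notation "Z[" i "]" => Subgroup.upperCentralSeries T i

/-- The element `b^i c^j`. -/
def flagElt (b c : T) (i j : ZMod 2) : T := b ^ i.val * c ^ j.val

theorem flagElt_mem (F : Flag T a b c) (i j : ZMod 2) : flagElt b c i j ∈ Z[2] :=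
  mul_mem (pow_mem F.b2 _) (pow_mem (Subgroup.upperCentralSeries_mono T (show 1 ≤ 2 by norm_num) F.c1) _)

theorem flagElt_zero_mem (F : Flag T a b c) (j : ZMod 2) : flagElt b c 0 j ∈ Z[1] := by
  rw [flagElt, ZMod.val_zero, pow_zero, one_mul]; exact pow_mem F.c1 _

theorem flagElt_mul (h : Cond T W) (F : Flag T a b c) (i j i' j' : ZMod 2) :
    flagElt b c i j * flagElt b c i' j' = flagElt b c (i + i') (j + j') := by
  have h12 := Subgroup.upperCentralSeries_mono T (show 1 ≤ 2 by norm_num)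
  have hb : b * b = 1 := h.z_sq.1 b F.b2
  have hc : c * c = 1 := h.z_sq.1 c (h12 F.c1)
  have hbc : Commute b c := h.mem_one F.c1 b
  have hp : ∀ x : T, x * x = 1 → ∀ m n : ZMod 2, x ^ (m + n).val = x ^ m.val * x ^ n.val := by
    intro x hx m n
    rw [← pow_add, ZMod.val_add, ← pow_eq_pow_mod _ (by rw [pow_two]; exact hx)]
  rw [flagElt, flagElt, flagElt, hp b hb, hp c hc,
    show b ^ i.val * c ^ j.val * (b ^ i'.val * c ^ j'.val) = b ^ i.val * (c ^ j.val * b ^ i'.val) * c ^ j'.val by group,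
    ← (hbc.pow_pow _ _).eq]
  group

theorem flagElt_injective (h : Cond T W) (F : Flag T a b c) {i j i' j' : ZMod 2}
    (he : flagElt b c i j = flagElt b c i' j') : i = i' ∧ j = j' := by
  have h0 : flagElt b c (i + i') (j + j') = 1 := by
    rw [← flagElt_mul h F, he]
    exact h.z_sq.1 _ (flagElt_mem F i' j')
  have two : ∀ m n : ZMod 2, m + n = 0 → m = n := by decide
  have hi : i + i' = 0 := by
    rcases (show ∀ m : ZMod 2, m = 0 ∨ m = 1 by decide) (i + i') with h1 | h1
    · exact h1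
    · rw [flagElt, h1, ZMod.val_one, pow_one] at h0
      exact absurd (by rw [eq_inv_of_mul_eq_one_left h0]; exact inv_mem (pow_mem F.c1 _)) F.b1
  refine ⟨two _ _ hi, ?_⟩
  rcases (show ∀ m : ZMod 2, m = 0 ∨ m = 1 by decide) (j + j') with h1 | h1
  · exact two _ _ h1
  · rw [flagElt, hi, h1, ZMod.val_zero, ZMod.val_one, pow_zero, one_mul, pow_one] at h0
    exact absurd h0 F.c0

/-- An element with the images prescribed by `tab g`. -/
def Acts (a b c : T) (g : DihedralGroup 4) (u : T) : Prop :=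
  u * a * u⁻¹ = flagElt b c (tab g).1 (tab g).2.1 * a ∧ u * b * u⁻¹ = flagElt b c 0 (tab g).2.2 * b

theorem exists_acts (h : Cond T W) (F : Flag T a b c) (g : DihedralGroup 4) : ∃ u, Acts a b c g u :=
  h.realize F (flagElt_mem F _ _) (flagElt_zero_mem F _)

theorem acts_mul (h : Cond T W) (F : Flag T a b c) {g g' : DihedralGroup 4} {u u' : T}
    (hu : Acts a b c g u) (hu' : Acts a b c g' u') : Acts a b c (g * g') (u * u') := by
  have hflag : ∀ i j : ZMod 2, u * flagElt b c i j * u⁻¹ = flagElt b c i (j + (tab g).2.2 * i) := by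
    intro i j
    have hcu : ∀ n : ℕ, u * c ^ n * u⁻¹ = c ^ n := fun n => by
      rw [h.mem_one (pow_mem F.c1 n) u, mul_inv_cancel_right]
    rcases (show ∀ m : ZMod 2, m = 0 ∨ m = 1 by decide) i with rfl | rfl
    · rw [mul_zero, add_zero, flagElt, ZMod.val_zero, pow_zero, one_mul, hcu]
    · rw [mul_one]
      conv_lhs => rw [flagElt, ZMod.val_one, pow_one]
      rw [show u * (b * c ^ j.val) * u⁻¹ = (u * b * u⁻¹) * (u * c ^ j.val * u⁻¹) by group, hu.2, hcu]
      have e1 : flagElt b c 1 0 = b := by simp [flagElt, ZMod.val_one]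
      have e2 : flagElt b c 0 j = c ^ j.val := by simp [flagElt]
      rw [← e2]
      conv_lhs => enter [1, 2]; rw [← e1]
      rw [flagElt_mul h F, flagElt_mul h F]
      congr 1
      rw [add_zero, add_comm]
  refine ⟨?_, ?_⟩
  · rw [show u * u' * a * (u * u')⁻¹ = u * (u' * a * u'⁻¹) * u⁻¹ by group, hu'.1,
      show ∀ v : T, u * (v * a) * u⁻¹ = (u * v * u⁻¹) * (u * a * u⁻¹) from fun v => by group,
      hflag, hu.1, ← mul_assoc, flagElt_mul h F, tab_mul]
    congr 2 <;> simp only [] <;> ring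
  · rw [show u * u' * b * (u * u')⁻¹ = u * (u' * b * u'⁻¹) * u⁻¹ by group, hu'.2,
      show ∀ v : T, u * (v * b) * u⁻¹ = (u * v * u⁻¹) * (u * b * u⁻¹) from fun v => by group,
      hflag, hu.2, ← mul_assoc, flagElt_mul h F, tab_mul]
    congr 2 <;> simp only [] <;> ring

theorem acts_eq (h : Cond T W) (F : Flag T a b c) {g : DihedralGroup 4} {u v : T}
    (hu : Acts a b c g u) (hv : Acts a b c g v) : u⁻¹ * v ∈ W := by
  have key : ∀ x : T, u * x * u⁻¹ = v * x * v⁻¹ → u⁻¹ * v * x = x * (u⁻¹ * v) := by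
    intro x hx
    calc u⁻¹ * v * x = u⁻¹ * (v * x * v⁻¹) * v := by group
      _ = u⁻¹ * (u * x * u⁻¹) * v := by rw [hx]
      _ = x * (u⁻¹ * v) := by group
  exact h.mem_W_of_fix F (key a (hu.1.trans hv.1.symm)) (key b (hu.2.trans hv.2.symm))

/-- A chosen element acting as `g`. -/
noncomputable def rep (h : Cond T W) (F : Flag T a b c) (g : DihedralGroup 4) : T :=
  Classical.choose (exists_acts h F g)

theorem rep_acts (h : Cond T W) (F : Flag T a b c) (g : DihedralGroup 4) : Acts a b c g (rep h F g) :=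
  Classical.choose_spec (exists_acts h F g)

theorem rep_mul (h : Cond T W) (F : Flag T a b c) (g g' : DihedralGroup 4) :
    (rep h F g * rep h F g')⁻¹ * rep h F (g * g') ∈ W :=
  acts_eq h F (acts_mul h F (rep_acts h F g) (rep_acts h F g')) (rep_acts h F _)

theorem rep_inj (h : Cond T W) (F : Flag T a b c) {g g' : DihedralGroup 4}
    (hw : (rep h F g)⁻¹ * rep h F g' ∈ W) : g = g' := by
  have h23 := Subgroup.upperCentralSeries_mono T (show 2 ≤ 3 by norm_num)
  have key : ∀ x ∈ Z[3], rep h F g * x * (rep h F g)⁻¹ = rep h F g' * x * (rep h F g')⁻¹ := by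
    intro x hx
    have := h.W_comm hw hx
    calc rep h F g * x * (rep h F g)⁻¹ = rep h F g * (x * ((rep h F g)⁻¹ * rep h F g')) * (rep h F g')⁻¹ := by group
      _ = rep h F g * ((rep h F g)⁻¹ * rep h F g' * x) * (rep h F g')⁻¹ := by rw [this]
      _ = _ := by group
  have e1 := key a F.a3
  have e2 := key b (h23 F.b2)
  rw [(rep_acts h F g).1, (rep_acts h F g').1] at e1
  rw [(rep_acts h F g).2, (rep_acts h F g').2] at e2
  obtain ⟨h1, h2⟩ := flagElt_injective h F (mul_right_cancel e1)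
  obtain ⟨-, h3⟩ := flagElt_injective h F (mul_right_cancel e2)
  exact tab_injective (Prod.ext h1 (Prod.ext h2 h3))

theorem Cond.exists_equiv (h : Cond T W) (F : Flag T a b c) [W.Normal] :
    ∃ e : DihedralGroup 4 ≃* T ⧸ W, ∀ g, e g = QuotientGroup.mk (rep h F g) := by
  let f : DihedralGroup 4 →* T ⧸ W :=
    MonoidHom.mk' (fun g => QuotientGroup.mk (rep h F g)) fun g g' => by
      rw [← QuotientGroup.mk_mul]
      exact (QuotientGroup.eq.2 (rep_mul h F g g')).symm
  have hinj : Function.Injective f := fun g g' hgg => rep_inj h F (QuotientGroup.eq.1 hgg)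
  have hbij : Function.Bijective f := by
    refine (Nat.bijective_iff_injective_and_card _).2 ⟨hinj, ?_⟩
    rw [DihedralGroup.nat_card]
    exact h.main.2.2.1.symm
  exact ⟨MulEquiv.ofBijective f hbij, fun g => rfl⟩

end Cfsg.Lib.RudSylow
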