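import Cfsg.Agent.Lib.Local.RudSylow.Structure

/-!
# Two-groups with a short upper central series: odd automorphisms and uniqueness of `W`
-/

set_option autoImplicit false

open Subgroup

namespace Cfsg.Lib.RudSylow

variable {T : Type*} [Group T] [Finite T] {W : Subgroup T}

local notation "Z[" i "]" => Subgroup.upperCentralSeries T i

theorem stab_step (φ : MulAut T) {n : ℕ} (hn : Odd n) (hφ : φ ^ n = 1) {x z : T} (h1 : φ x = x * z)
    (h2 : φ z = z) (h3 : z ^ 4 = 1) : φ x = x := by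
  have hk : ∀ k : ℕ, (φ ^ k) x = x * z ^ k := by
    intro k
    induction k with
    | zero => simp
    | succ k ih =>
      rw [pow_succ', MulAut.mul_apply, ih, map_mul, map_pow, h1, h2, pow_succ', mul_assoc]
  have h4 := hk n
  rw [hφ, MulAut.one_apply, eq_comm, mul_eq_left] at h4
  have hd : orderOf z ∣ 1 := by
    have ha := orderOf_dvd_of_pow_eq_one h4
    have hb := orderOf_dvd_of_pow_eq_one h3
    have hc : Nat.Coprime n 4 := by
      have := hn.coprime_two_right.mul_right hn.coprime_two_right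
      simpa using this
    rw [← hc.gcd_eq_one]; exact Nat.dvd_gcd ha hb
  rw [h1, orderOf_eq_one_iff.1 (Nat.dvd_one.1 hd), mul_one]

theorem map_mem_Z (φ : MulAut T) {i : ℕ} {x : T} (hx : x ∈ Z[i]) : φ x ∈ Z[i] :=
  characteristic_iff_map_le.1 (inferInstance : (Z[i]).Characteristic) φ ⟨x, hx, rfl⟩

theorem Cond.layer (h : Cond T W) (φ : MulAut T) {i : ℕ} (hi : i < 4) {x : T} (hx : x ∈ Z[i + 1]) :
    x⁻¹ * φ x ∈ Z[i] := by
  by_cases hxi : x ∈ Z[i]
  · exact mul_mem (inv_mem hxi) (map_mem_Z φ hxi)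
  · rcases h.decomp hi hx hxi (map_mem_Z φ hx) with h1 | h1
    · exact absurd (by simpa using map_mem_Z φ.symm h1) hxi
    · exact h1

theorem Cond.odd_aut_trivial (h : Cond T W) (φ : MulAut T) {n : ℕ} (hn : Odd n) (hφ : φ ^ n = 1) : φ = 1 := by
  have h13 : ∀ {i}, i ≤ 3 → Z[i] ≤ Z[3] := fun hi => Subgroup.upperCentralSeries_mono T hi
  have h4pow : ∀ x : T, x * x ∈ Z[3] → x ^ 4 = 1 := fun x hx => by
    rw [← h.elem hx]; simp [pow_succ, mul_assoc]
  have hz4 : ∀ x ∈ Z[3], x ^ 4 = 1 := fun x hx => h4pow x (mul_mem hx hx)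
  have hfix : ∀ i, i ≤ 3 → ∀ x ∈ Z[i], φ x = x := by
    intro i
    induction i with
    | zero =>
      intro _ x hx
      rw [Subgroup.upperCentralSeries_zero, mem_bot] at hx
      rw [hx, map_one]
    | succ i ih =>
      intro hi x hx
      have hl := h.layer φ (by omega) hx
      exact stab_step φ hn hφ (mul_inv_cancel_left x (φ x)).symm (ih (by omega) _ hl) (hz4 _ (h13 (by omega) hl))
  have hTW : ∀ t : T, t⁻¹ * φ t ∈ W := by
    intro t
    refine h.mem_W fun x hx => ?_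
    have hconj : t * x * t⁻¹ ∈ Z[3] := (inferInstance : (Z[3]).Normal).conj_mem x hx t
    have := hfix 3 le_rfl _ hconj
    rw [map_mul, map_mul, map_inv, hfix 3 le_rfl x hx] at this
    calc x * (t⁻¹ * φ t) = t⁻¹ * (t * x * t⁻¹) * φ t := by group
      _ = t⁻¹ * (φ t * x * (φ t)⁻¹) * φ t := by rw [this]
      _ = t⁻¹ * φ t * x := by group
  have hWmem : ∀ y ∈ W, φ y ∈ W := by
    intro y hy
    have := W.mul_mem hy (hTW y)
    rwa [mul_inv_cancel_left] at this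
  haveI := h.W_normal
  -- the image of `y ↦ y⁻¹ φ y` modulo `Z₃`
  have hcommW : ∀ u ∈ W, ∀ v ∈ W, ∃ k ∈ Z[3], u * v = v * u * k := by
    intro u hu v hv
    refine ⟨_, h.comm_mem (W.inv_mem hu) (W.inv_mem hv), ?_⟩
    group
  let M : Subgroup T :=
    { carrier := {x | ∃ y ∈ W, ∃ k ∈ Z[3], x = y⁻¹ * φ y * k}
      one_mem' := ⟨1, one_mem W, 1, one_mem _, by simp⟩
      mul_mem' := by
        rintro _ _ ⟨y, hy, k, hk, rfl⟩ ⟨y', hy', k', hk', rfl⟩
        obtain ⟨l, hl, hl'⟩ := hcommW (y⁻¹ * φ y) (W.mul_mem (W.inv_mem hy) (hWmem y hy)) y'⁻¹ (W.inv_mem hy')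
        refine ⟨y * y', W.mul_mem hy hy', (φ y')⁻¹ * l * φ y' * k * k', ?_, ?_⟩
        · refine mul_mem (mul_mem ?_ hk) hk'
          rw [mul_assoc, h.W_comm (hWmem y' hy') hl, inv_mul_cancel_left]; exact hl
        · rw [map_mul, show (y * y')⁻¹ * (φ y * φ y') * ((φ y')⁻¹ * l * φ y' * k * k') =
            y'⁻¹ * (y⁻¹ * φ y) * l * φ y' * k * k' by group, ← hl']
          calc y⁻¹ * φ y * k * (y'⁻¹ * φ y' * k') = y⁻¹ * φ y * (k * (y'⁻¹ * φ y')) * k' := by group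
            _ = y⁻¹ * φ y * ((y'⁻¹ * φ y') * k) * k' := by
              rw [h.W_comm (W.mul_mem (W.inv_mem hy') (hWmem y' hy')) hk]
            _ = _ := by group
      inv_mem' := by
        rintro _ ⟨y, hy, k, hk, rfl⟩
        have hu : y⁻¹ * φ y ∈ W := W.mul_mem (W.inv_mem hy) (hWmem y hy)
        obtain ⟨l, hl, hl'⟩ := hcommW (φ y)⁻¹ (W.inv_mem (hWmem y hy)) y hy
        refine ⟨y⁻¹, W.inv_mem hy, l * k⁻¹, mul_mem hl (inv_mem hk), ?_⟩
        rw [map_inv, inv_inv, show y * (φ y)⁻¹ * (l * k⁻¹) = y * (φ y)⁻¹ * l * k⁻¹ by group, ← hl', mul_inv_rev]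
        have := h.W_comm (W.inv_mem hu) (inv_mem hk)
        rw [this]; group }
  have hMW : M ≤ W := by
    rintro _ ⟨y, hy, k, hk, rfl⟩
    exact W.mul_mem (W.mul_mem (W.inv_mem hy) (hWmem y hy)) (h.z3_le hk)
  haveI : M.Normal := by
    refine ⟨?_⟩
    rintro _ ⟨y, hy, k, hk, rfl⟩ t
    have hy' : t * y * t⁻¹ ∈ W := h.W_normal.conj_mem y hy t
    obtain ⟨l, hl, hl'⟩ := hcommW (t⁻¹ * φ t) (hTW t) (φ y) (hWmem y hy)
    refine ⟨t * y * t⁻¹, hy', t * (l⁻¹ * k) * t⁻¹,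
      (inferInstance : (Z[3]).Normal).conj_mem _ (mul_mem (inv_mem hl) hk) t, ?_⟩
    have hlw : l * (t⁻¹ * φ t)⁻¹ = (t⁻¹ * φ t)⁻¹ * l := h.W_comm (W.inv_mem (hTW t)) hl
    have h1 : φ (t * y * t⁻¹) = t * (φ y * l) * t⁻¹ := by
      rw [map_mul, map_mul, map_inv]
      calc φ t * φ y * (φ t)⁻¹ = t * ((t⁻¹ * φ t) * φ y * (t⁻¹ * φ t)⁻¹) * t⁻¹ := by group
        _ = t * (φ y * (t⁻¹ * φ t) * (l * (t⁻¹ * φ t)⁻¹)) * t⁻¹ := by rw [hl']; group
        _ = t * (φ y * l) * t⁻¹ := by rw [hlw]; group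
    rw [h1]; group
  have hM3 : M ≤ Z[3] := by
    by_contra hnot
    haveI : Group.IsNilpotent T := by
      haveI : Fact (Nat.Prime 2) := ⟨Nat.prime_two⟩
      exact h.two.isNilpotent
    obtain ⟨e, ⟨y, hy, k, hk, rfl⟩, he4, he3⟩ := exists_mem_succ hnot
    have hl := h.layer φ (i := 3) (by norm_num) he4
    have he := stab_step φ hn hφ (mul_inv_cancel_left _ (φ (y⁻¹ * φ y * k))).symm (hfix 3 le_rfl _ hl) (hz4 _ hl)
    have hv : φ (y⁻¹ * φ y) = y⁻¹ * φ y := by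
      rw [map_mul φ (y⁻¹ * φ y) k, hfix 3 le_rfl k hk] at he
      exact mul_right_cancel he
    have := stab_step φ hn hφ (mul_inv_cancel_left y (φ y)).symm hv
      (h4pow _ (h.sq_mem (W.mul_mem (W.inv_mem hy) (hWmem y hy))))
    rw [this, inv_mul_cancel, one_mul] at he3
    exact he3 hk
  have hWfix : ∀ y ∈ W, φ y = y := by
    intro y hy
    have hm : y⁻¹ * φ y ∈ Z[3] := hM3 ⟨y, hy, 1, one_mem _, (mul_one _).symm⟩
    exact stab_step φ hn hφ (mul_inv_cancel_left y (φ y)).symm (hfix 3 le_rfl _ hm) (hz4 _ hm)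
  refine MulEquiv.ext fun t => ?_
  rw [MulAut.one_apply]
  exact stab_step φ hn hφ (mul_inv_cancel_left t (φ t)).symm (hWfix _ (hTW t)) (h4pow _ (h.sq_mem (hTW t)))

/-- A subgroup isomorphic to `W` by a map inside `T` is `W`. -/
theorem Cond.range_eq (h : Cond T W) (σ : ↥W →* T) (hσ : Function.Injective σ) : σ.range = W := by
  haveI := h.W_normal
  have hcard : Nat.card ↥σ.range = Nat.card ↥W :=
    Nat.card_congr (MonoidHom.ofInjective hσ).symm.toEquiv
  set Zg : Subgroup T := ((Z[3]).subgroupOf W).map σ with hZg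
  set U := σ.range ⊓ W with hU
  have hidx : W.relIndex σ.range ≤ 8 := by
    rw [← h.main.2.2.1]
    exact Nat.le_of_dvd (Nat.pos_of_ne_zero index_ne_zero_of_finite) (relIndex_dvd_index_of_normal W σ.range)
  have hUW : U.relIndex W ≤ 8 := by
    have h1 : U.relIndex σ.range = W.relIndex σ.range := by rw [hU, inf_comm, inf_relIndex_right]
    have h2 := card_mul_index (U.subgroupOf σ.range)
    have h3 := card_mul_index (U.subgroupOf W)
    rw [Nat.card_congr (subgroupOfEquivOfLe (inf_le_left : U ≤ σ.range)).toEquiv, hcard] at h2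
    rw [Nat.card_congr (subgroupOfEquivOfLe (inf_le_right : U ≤ W)).toEquiv] at h3
    have : U.relIndex W = U.relIndex σ.range :=
      Nat.eq_of_mul_eq_mul_left Nat.card_pos (h3.trans h2.symm)
    omega
  have hZgU : Zg ≤ U := by
    have hle : (U.comap σ).index ≤ 16 := by
      rw [index_comap, hU, inf_comm, inf_relIndex_right]; omega
    rintro _ ⟨x, hx, rfl⟩
    have hx' : (x : T) ∈ phi W := h.main.1.symm ▸ hx
    obtain ⟨x', hx'', he⟩ := hx'
    rw [show x = x' from Subtype.ext he.symm]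
    exact h.deep _ hle hx''
  have hsq : ∀ x ∈ U, x * x ∈ Z[3] ⊓ Zg := by
    rintro x ⟨⟨w, rfl⟩, hx⟩
    exact ⟨h.sq_mem hx, w * w, h.sq_mem w.2, map_mul σ w w⟩
  have hcm : ∀ x ∈ U, ∀ y ∈ U, x * y * x⁻¹ * y⁻¹ ∈ Z[3] ⊓ Zg := by
    rintro x ⟨⟨u, rfl⟩, hx⟩ y ⟨⟨v, rfl⟩, hy⟩
    refine ⟨h.comm_mem hx hy, u * v * u⁻¹ * v⁻¹, h.comm_mem u.2 v.2, ?_⟩
    rw [map_mul, map_mul, map_mul, map_inv, map_inv]
  have hle : Z[3] ≤ Zg := by
    by_contra hne
    exact h.no_singular inf_le_right hUW inf_le_left (fun hh => hne (hh.trans inf_le_right)) hsq hcm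
  refine eq_of_le_of_card_ge ?_ hcard.ge
  rintro _ ⟨w, rfl⟩
  refine h.mem_W fun x hx => ?_
  obtain ⟨k, hk, rfl⟩ := hle hx
  rw [← map_mul, ← map_mul, show k * w = w * k from Subtype.ext (h.W_comm w.2 hk)]

end Cfsg.Lib.RudSylow
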