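import Cfsg.Agent.Lib.Local.RudSylow.Basic
import Mathlib

/-!
# Two-groups with a short upper central series: the structure of `W`
-/

set_option autoImplicit false

open Subgroup
open scoped commutatorElement

namespace Cfsg.Lib.RudSylow

section halve

variable {Q : Type*} [Group Q] [Finite Q]

/-- An element normalizing `H` with square in `H` acts on the fixed points of `H` in an elementary
abelian normal subgroup `V` as an involution: the fixed points at most square. -/
theorem halve {V H : Subgroup Q} [V.Normal] (hcomm : ∀ x ∈ V, ∀ y ∈ V, x * y = y * x)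
    (hsq : ∀ x ∈ V, x * x = 1) {t : Q} (ht : ∀ x ∈ H, t⁻¹ * x * t ∈ H) (htt : t * t ∈ H) :
    Nat.card ↥(V ⊓ centralizer (H : Set Q)) ≤
        Nat.card ↥(V ⊓ centralizer ((H ⊔ zpowers t : Subgroup Q) : Set Q)) ^ 2 ∧
      (Nat.card ↥(V ⊓ centralizer (H : Set Q)) =
          Nat.card ↥(V ⊓ centralizer ((H ⊔ zpowers t : Subgroup Q) : Set Q)) ^ 2 →
        ∀ y ∈ V ⊓ centralizer ((H ⊔ zpowers t : Subgroup Q) : Set Q),
          ∃ x ∈ V ⊓ centralizer (H : Set Q), x * (t * x * t⁻¹) = y) := by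
  set C := V ⊓ centralizer (H : Set Q) with hC
  set C' := V ⊓ centralizer ((H ⊔ zpowers t : Subgroup Q) : Set Q) with hC'
  have hmem : ∀ x : Q, x ∈ C' ↔ x ∈ C ∧ t * x = x * t := by
    intro x
    constructor
    · rintro ⟨h1, h2⟩
      refine ⟨⟨h1, mem_centralizer_iff.2 fun k hk => mem_centralizer_iff.1 h2 k (mem_sup_left hk)⟩, ?_⟩
      exact mem_centralizer_iff.1 h2 t (mem_sup_right (mem_zpowers t))
    · rintro ⟨⟨h1, h2⟩, h3⟩
      refine ⟨h1, mem_centralizer_iff.2 fun k hk => ?_⟩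
      have : H ⊔ zpowers t ≤ centralizer ({x} : Set Q) := by
        refine sup_le (fun u hu => mem_centralizer_singleton_iff.2 ?_)
          (zpowers_le.2 (mem_centralizer_singleton_iff.2 h3))
        exact mem_centralizer_iff.1 h2 u hu
      exact mem_centralizer_singleton_iff.1 (this hk)
  have hconj : ∀ x ∈ C, t * x * t⁻¹ ∈ C := by
    rintro x ⟨h1, h2⟩
    refine ⟨(inferInstance : V.Normal).conj_mem x h1 t, mem_centralizer_iff.2 fun k hk => ?_⟩
    have := mem_centralizer_iff.1 h2 _ (ht k hk)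
    calc k * (t * x * t⁻¹) = t * (t⁻¹ * k * t * x) * t⁻¹ := by group
      _ = t * (x * (t⁻¹ * k * t)) * t⁻¹ := by rw [this]
      _ = t * x * t⁻¹ * k := by group
  have hN : ∀ x ∈ C, x * (t * x * t⁻¹) ∈ C' := by
    intro x hx
    rw [hmem]
    refine ⟨mul_mem hx (hconj x hx), ?_⟩
    have h2 : t * (t * x * t⁻¹) * t⁻¹ = x := by
      have := mem_centralizer_iff.1 hx.2 _ htt
      calc t * (t * x * t⁻¹) * t⁻¹ = (t * t * x) * (t * t)⁻¹ := by group
        _ = x := by rw [this, mul_inv_cancel_right]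
    calc t * (x * (t * x * t⁻¹)) = (t * x * t⁻¹) * (t * (t * x * t⁻¹) * t⁻¹) * t := by group
      _ = (x * (t * x * t⁻¹)) * t := by rw [h2, hcomm _ (hconj x hx).1 x hx.1]
  let φ : ↥C →* ↥C' :=
    { toFun := fun x => ⟨(x : Q) * (t * x * t⁻¹), hN x x.2⟩
      map_one' := Subtype.ext (by simp)
      map_mul' := fun x y => Subtype.ext (by
        show (x : Q) * y * (t * (x * y) * t⁻¹) = x * (t * x * t⁻¹) * (y * (t * y * t⁻¹))
        calc (x : Q) * y * (t * (x * y) * t⁻¹) = x * (y * (t * x * t⁻¹)) * (t * y * t⁻¹) := by group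
          _ = x * ((t * x * t⁻¹) * y) * (t * y * t⁻¹) := by rw [hcomm _ y.2.1 _ (hconj x x.2).1]
          _ = _ := by group) }
  have hker : Nat.card ↥φ.ker ≤ Nat.card ↥C' := by
    refine Nat.card_le_card_of_injective (fun x => (⟨((x : ↥C) : Q), (hmem _).2 ⟨(x : ↥C).2, ?_⟩⟩ : ↥C')) ?_
    · have hx : ((x : ↥C) : Q) * (t * (x : ↥C) * t⁻¹) = 1 := congrArg Subtype.val x.2
      have h1 := inv_eq_of_mul_eq_one_right hx
      rw [inv_eq_of_mul_eq_one_right (hsq _ (x : ↥C).2.1)] at h1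
      exact (mul_inv_eq_iff_eq_mul.1 h1.symm)
    · intro x y hxy
      exact Subtype.ext (Subtype.ext (congrArg (fun z : ↥C' => (z : Q)) hxy :))
  have hcard : Nat.card ↥C = Nat.card ↥φ.ker * Nat.card ↥φ.range := by
    rw [← card_mul_index φ.ker, Subgroup.index_ker]
  have hr : Nat.card ↥φ.range ≤ Nat.card ↥C' := Nat.card_le_card_of_injective _ Subtype.coe_injective
  refine ⟨by rw [hcard, pow_two]; exact Nat.mul_le_mul hker hr, fun heq y hy => ?_⟩
  have hreq : φ.range = ⊤ := by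
    refine eq_top_of_le_card _ ?_
    have h1 : Nat.card ↥C' * Nat.card ↥C' ≤ Nat.card ↥C' * Nat.card ↥φ.range := by
      rw [← pow_two, ← heq, hcard]
      exact Nat.mul_le_mul_right _ hker
    exact Nat.le_of_mul_le_mul_left h1 Nat.card_pos
  obtain ⟨x, hx⟩ := (hreq ▸ mem_top (⟨y, hy⟩ : ↥C') : (⟨y, hy⟩ : ↥C') ∈ φ.range)
  exact ⟨x, x.2, congrArg Subtype.val hx⟩

/-- Iterating `halve` up to the whole group. -/
theorem card_cent_le (hQ : IsPGroup 2 Q) {V : Subgroup Q} [V.Normal] (hcomm : ∀ x ∈ V, ∀ y ∈ V, x * y = y * x)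
    (hsq : ∀ x ∈ V, x * x = 1) : ∀ n, ∀ H : Subgroup Q, H.index = n →
      Nat.card ↥(V ⊓ centralizer (H : Set Q)) ≤ Nat.card ↥(V ⊓ centralizer ((⊤ : Subgroup Q) : Set Q)) ^ n := by
  haveI : Fact (Nat.Prime 2) := ⟨Nat.prime_two⟩
  haveI : Group.IsNilpotent Q := hQ.isNilpotent
  intro n
  induction n using Nat.strong_induction_on with
  | h n ih =>
    intro H hn
    by_cases htop : H = ⊤
    · subst htop
      rw [index_top] at hn
      subst hn
      rw [pow_one]
    have hlt := Group.normalizerCondition_of_isNilpotent (G := Q) H (lt_top_iff_ne_top.2 htop)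
    obtain ⟨t0, ht0, ht0'⟩ := SetLike.exists_of_lt hlt
    obtain ⟨t, htN, htH, htt⟩ : ∃ t ∈ normalizer (H : Set Q), t ∉ H ∧ t * t ∈ H := by
      obtain ⟨k, hk⟩ := hQ t0
      have hex : ∃ j, t0 ^ (2 ^ j) ∈ H := ⟨k, hk ▸ one_mem H⟩
      classical
      obtain ⟨j, hj⟩ : ∃ j, Nat.find hex = j + 1 :=
        ⟨Nat.find hex - 1, by
          have : Nat.find hex ≠ 0 := fun e => ht0' (by simpa [e] using Nat.find_spec hex)
          omega⟩
      refine ⟨t0 ^ (2 ^ j), pow_mem ht0 _, Nat.find_min hex (by omega), ?_⟩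
      rw [← pow_add, ← two_mul, ← pow_succ', ← hj]
      exact Nat.find_spec hex
    have hnorm : ∀ x ∈ H, t⁻¹ * x * t ∈ H := fun x hx => (mem_normalizer_iff''.1 htN x).1 hx
    set H' := H ⊔ zpowers t
    have hidx : H.relIndex H' * H'.index = n := by rw [relIndex_mul_index le_sup_left, hn]
    have hne1 : H.relIndex H' ≠ 1 := fun e => htH (relIndex_eq_one.1 e (mem_sup_right (mem_zpowers t)))
    have hne0 : H.relIndex H' ≠ 0 := fun e => by
      rw [e, zero_mul] at hidx
      exact index_ne_zero_of_finite (hn.trans hidx.symm)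
    have hpos : 1 ≤ H'.index := Nat.one_le_iff_ne_zero.2 index_ne_zero_of_finite
    have h2 : 2 * H'.index ≤ n := by
      rw [← hidx]; exact Nat.mul_le_mul_right _ (by omega)
    refine ((halve hcomm hsq hnorm htt).1).trans ?_
    refine (Nat.pow_le_pow_left (ih H'.index (by omega) H' rfl) 2).trans ?_
    rw [← pow_mul]
    exact Nat.pow_le_pow_right Nat.card_pos (by omega)

end halve

variable {T : Type*} [Group T] [Finite T] {W : Subgroup T}

local notation "Z[" i "]" => Subgroup.upperCentralSeries T i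

/-- A flag in `Z₃`. -/
structure Flag (T : Type*) [Group T] (a b c : T) : Prop where
  a3 : a ∈ Subgroup.upperCentralSeries T 3
  a2 : a ∉ Subgroup.upperCentralSeries T 2
  b2 : b ∈ Subgroup.upperCentralSeries T 2
  b1 : b ∉ Subgroup.upperCentralSeries T 1
  c1 : c ∈ Subgroup.upperCentralSeries T 1
  c0 : c ≠ 1

variable {a b c : T}

theorem Cond.flag (h : Cond T W) : ∃ a b c : T, Flag T a b c := by
  obtain ⟨a, b, c, h1, h2, h3, h4, h5, h6⟩ := h.exists_flag
  exact ⟨a, b, c, ⟨h1, h2, h3, h4, h5, h6⟩⟩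

/-- The action of `T/W` on the flag. -/
noncomputable def shift (h : Cond T W) (F : Flag T a b c) (q : T ⧸ W) : ↥(Z[2]) × ↥(Z[1]) :=
  (⟨q.out * a * q.out⁻¹ * a⁻¹, conj_step F.a3 _⟩, ⟨q.out * b * q.out⁻¹ * b⁻¹, conj_step F.b2 _⟩)

theorem Cond.mem_W_of_fix (h : Cond T W) (F : Flag T a b c) {u : T} (h1 : u * a = a * u) (h2 : u * b = b * u) :
    u ∈ W := h.mem_W (h.commute_z3 F.a3 F.a2 F.b2 F.b1 h1 h2)

theorem shift_injective (h : Cond T W) (F : Flag T a b c) : Function.Injective (shift h F) := by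
  intro p q hpq
  have e1 : p.out * a * p.out⁻¹ * a⁻¹ = q.out * a * q.out⁻¹ * a⁻¹ := congrArg (fun v => (v.1 : T)) hpq
  have e2 : p.out * b * p.out⁻¹ * b⁻¹ = q.out * b * q.out⁻¹ * b⁻¹ := congrArg (fun v => (v.2 : T)) hpq
  have key : ∀ x : T, p.out * x * p.out⁻¹ * x⁻¹ = q.out * x * q.out⁻¹ * x⁻¹ →
      p.out⁻¹ * q.out * x = x * (p.out⁻¹ * q.out) := by
    intro x hx
    have := mul_right_cancel hx
    calc p.out⁻¹ * q.out * x = p.out⁻¹ * (q.out * x * q.out⁻¹) * q.out := by group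
      _ = p.out⁻¹ * (p.out * x * p.out⁻¹) * q.out := by rw [this]
      _ = x * (p.out⁻¹ * q.out) := by group
  have := h.mem_W_of_fix F (key a e1) (key b e2)
  rw [← QuotientGroup.out_eq' p, ← QuotientGroup.out_eq' q]
  exact QuotientGroup.eq.2 this

theorem Cond.index_le (h : Cond T W) : W.index ≤ 8 := by
  obtain ⟨a, b, c, F⟩ := h.flag
  have := Nat.card_le_card_of_injective _ (shift_injective h F)
  rw [Nat.card_prod, h.cardZ (by norm_num), h.cardZ (by norm_num)] at this
  exact this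

/-- The Frattini subgroup of `W`, viewed in `T`. -/
abbrev phi (W : Subgroup T) : Subgroup T := (frattini ↥W).map W.subtype

theorem Cond.main (h : Cond T W) :
    phi W = Z[3] ∧ Nat.card ↥W = 2 ^ 11 ∧ W.index = 8 ∧ Nat.card T = 2 ^ 14 := by
  haveI : Fact (Nat.Prime 2) := ⟨Nat.prime_two⟩
  haveI := h.W_normal
  haveI hΦn : (phi W).Normal := ConjAct.normal_of_characteristic_of_normal
  have hW2 : IsPGroup 2 ↥W := h.two.to_subgroup W
  have hΦc : Nat.card ↥(phi W) = Nat.card ↥(frattini ↥W) :=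
    card_map_of_injective W.subtype_injective
  obtain ⟨k, hk⟩ := IsPGroup.iff_card.1 (h.two.to_subgroup (phi W))
  have hk3 : k ≤ 3 := by
    have := h.small
    rw [← hΦc, hk, show (8 : ℕ) = 2 ^ 3 by norm_num] at this
    exact (Nat.pow_le_pow_iff_right (by norm_num)).1 this
  have hΦeq : phi W = Z[k] := eq_of_le_of_card_ge (le_of_card_le h.two hk.le)
    (by rw [hk, h.cardZ (by omega)])
  set V : Subgroup (T ⧸ phi W) := W.map (QuotientGroup.mk' (phi W)) with hV
  haveI : V.Normal := (inferInstance : W.Normal).map _ (QuotientGroup.mk'_surjective _)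
  have hcomm : ∀ x ∈ V, ∀ y ∈ V, x * y = y * x := by
    rintro _ ⟨x, hx, rfl⟩ _ ⟨y, hy, rfl⟩
    rw [← map_mul, ← map_mul]
    refine (QuotientGroup.eq).2 ⟨(⟨y, hy⟩ : ↥W)⁻¹ * ⟨x, hx⟩⁻¹ * (⟨y, hy⟩ * ⟨x, hx⟩), ?_, by simp⟩
    refine Cfsg.Lib.PGroup.commutator_le_frattini hW2 ?_
    rw [show ((⟨y, hy⟩ : ↥W))⁻¹ * ⟨x, hx⟩⁻¹ * (⟨y, hy⟩ * ⟨x, hx⟩) =
      ⁅(⟨y, hy⟩ : ↥W)⁻¹, (⟨x, hx⟩ : ↥W)⁻¹⁆ by rw [commutatorElement_def]; group, commutator_def]
    exact commutator_mem_commutator (mem_top _) (mem_top _)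
  have hsq : ∀ x ∈ V, x * x = 1 := by
    rintro _ ⟨x, hx, rfl⟩
    rw [← map_mul]
    refine (QuotientGroup.eq_one_iff _).2 ⟨(⟨x, hx⟩ : ↥W) * ⟨x, hx⟩, ?_, rfl⟩
    rw [← pow_two]; exact Cfsg.Lib.PGroup.pow_mem_frattini hW2 _
  have hidx : V.index ≤ 8 := by
    refine le_trans (Nat.le_of_dvd (Nat.pos_of_ne_zero index_ne_zero_of_finite) ?_) h.index_le
    exact index_map_dvd W (QuotientGroup.mk'_surjective _)
  have hVC : V ⊓ centralizer (V : Set (T ⧸ phi W)) = V :=
    inf_eq_left.2 fun x hx => mem_centralizer_iff.2 fun y hy => hcomm y hy x hx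
  have hb := card_cent_le (h.two.to_quotient _) hcomm hsq V.index V rfl
  rw [hVC] at hb
  obtain ⟨e, he1, he0⟩ : ∃ e, e ∈ Z[k + 1] ∧ e ∉ Z[k] := by
    by_contra hall
    push Not at hall
    have := card_le_of_le (fun x hx => hall x hx : Z[k + 1] ≤ Z[k])
    rw [h.cardZ (by omega), h.cardZ (by omega), pow_succ] at this
    have := Nat.two_pow_pos k
    omega
  have hfix : Nat.card ↥(V ⊓ centralizer ((⊤ : Subgroup (T ⧸ phi W)) : Set (T ⧸ phi W))) ≤ 2 := by
    classical
    refine le_trans (Nat.card_mono (Set.toFinite ({1, QuotientGroup.mk' (phi W) e} : Set (T ⧸ phi W))) ?_) ?_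
    · rintro _ ⟨⟨x, hx, rfl⟩, hcx⟩
      have hx1 : x ∈ Z[k + 1] := by
        refine Subgroup.mem_upperCentralSeries_succ_iff.2 fun y => ?_
        rw [← hΦeq, ← QuotientGroup.eq_one_iff, commutatorElement_def]
        have := mem_centralizer_iff.1 hcx (QuotientGroup.mk' (phi W) y) (mem_top _)
        show QuotientGroup.mk' (phi W) (x * y * x⁻¹ * y⁻¹) = 1
        rw [map_mul, map_mul, map_mul, map_inv, map_inv, ← this, mul_inv_cancel_right, mul_inv_cancel]
      rcases h.decomp (by omega) he1 he0 hx1 with h1 | h1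
      · left
        exact (QuotientGroup.eq_one_iff x).2 (hΦeq ▸ h1)
      · right
        exact (QuotientGroup.eq.2 (hΦeq ▸ h1)).symm
    · rw [Nat.card_coe_set_eq]
      exact (Set.ncard_insert_le _ _).trans (by simp)
  have hV256 : Nat.card ↥V ≤ 2 ^ 8 := (hb.trans (Nat.pow_le_pow_left hfix _)).trans
    (Nat.pow_le_pow_right (by norm_num) hidx)
  have hWcard : Nat.card ↥W = Nat.card ↥V * 2 ^ k := by
    have hle : phi W ≤ W := map_subtype_le _
    let f : ↥W →* T ⧸ phi W := (QuotientGroup.mk' (phi W)).comp W.subtype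
    have hr : f.range = V := by rw [hV, MonoidHom.range_eq_map, ← map_map, ← MonoidHom.range_eq_map, range_subtype]
    have hker : f.ker = (phi W).subgroupOf W := by
      ext x; simp [f, mem_subgroupOf, MonoidHom.mem_ker]
    rw [← card_mul_index f.ker, Subgroup.index_ker, hr, hker,
      Nat.card_congr (subgroupOfEquivOfLe hle).toEquiv, hk, Nat.mul_comm]
  have hT := card_mul_index W
  have hi := h.index_le
  have hbig := h.big
  have hk3' : k = 3 := by
    by_contra hne
    have : (2 : ℕ) ^ k ≤ 4 := Nat.pow_le_pow_right (by norm_num) (show k ≤ 2 by omega)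
    have h1 : Nat.card ↥W * W.index ≤ 2 ^ 8 * 4 * 8 := by
      rw [hWcard]; exact Nat.mul_le_mul (Nat.mul_le_mul hV256 this) hi
    omega
  subst hk3'
  have h1 : Nat.card ↥W ≤ 2 ^ 11 := by
    rw [hWcard]; exact le_trans (Nat.mul_le_mul_right _ hV256) (by norm_num)
  have h2 : Nat.card T ≤ 2 ^ 14 := by
    rw [← hT]; exact le_trans (Nat.mul_le_mul h1 hi) (by norm_num)
  refine ⟨hΦeq, ?_, ?_, by omega⟩
  · by_contra hne
    have : Nat.card ↥W * W.index ≤ (2 ^ 11 - 1) * 8 := Nat.mul_le_mul (by omega) hi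
    omega
  · by_contra hne
    have : Nat.card ↥W * W.index ≤ 2 ^ 11 * 7 := Nat.mul_le_mul h1 (by omega)
    omega

theorem Cond.z3_le (h : Cond T W) : Z[3] ≤ W := h.main.1 ▸ map_subtype_le _

theorem Cond.z3_comm (h : Cond T W) {x y : T} (hx : x ∈ Z[3]) (hy : y ∈ Z[3]) : x * y = y * x :=
  h.W_comm (h.z3_le hy) hx

theorem Cond.sq_mem (h : Cond T W) {x : T} (hx : x ∈ W) : x * x ∈ Z[3] := by
  haveI : Fact (Nat.Prime 2) := ⟨Nat.prime_two⟩
  rw [← h.main.1]
  exact ⟨⟨x, hx⟩ * ⟨x, hx⟩, by rw [← pow_two]; exact Cfsg.Lib.PGroup.pow_mem_frattini (h.two.to_subgroup W) _, rfl⟩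

theorem Cond.comm_mem (h : Cond T W) {x y : T} (hx : x ∈ W) (hy : y ∈ W) : x * y * x⁻¹ * y⁻¹ ∈ Z[3] := by
  haveI : Fact (Nat.Prime 2) := ⟨Nat.prime_two⟩
  rw [← h.main.1]
  refine ⟨⁅(⟨x, hx⟩ : ↥W), ⟨y, hy⟩⁆, Cfsg.Lib.PGroup.commutator_le_frattini (h.two.to_subgroup W) ?_, ?_⟩
  · rw [commutator_def]; exact commutator_mem_commutator (mem_top _) (mem_top _)
  · simp [commutatorElement_def]

/-- Every choice of images of the flag is realized. -/
theorem Cond.realize (h : Cond T W) (F : Flag T a b c) {φ ψ : T} (hφ : φ ∈ Z[2]) (hψ : ψ ∈ Z[1]) :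
    ∃ t : T, t * a * t⁻¹ = φ * a ∧ t * b * t⁻¹ = ψ * b := by
  have hbij : Function.Bijective (shift h F) := by
    refine (Nat.bijective_iff_injective_and_card _).2 ⟨shift_injective h F, ?_⟩
    rw [Nat.card_prod, h.cardZ (by norm_num), h.cardZ (by norm_num)]
    exact h.main.2.2.1
  obtain ⟨q, hq⟩ := hbij.2 (⟨φ, hφ⟩, ⟨ψ, hψ⟩)
  refine ⟨q.out, ?_, ?_⟩
  · have : q.out * a * q.out⁻¹ * a⁻¹ = φ := congrArg (fun v => (v.1 : T)) hq
    rw [← this]; group
  · have : q.out * b * q.out⁻¹ * b⁻¹ = ψ := congrArg (fun v => (v.2 : T)) hq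
    rw [← this]; group

theorem Cond.deep' (h : Cond T W) {U : Subgroup T} (hU : U.relIndex W ≤ 16) : Z[3] ≤ U := by
  rw [← h.main.1]
  rintro _ ⟨x, hx, rfl⟩
  exact h.deep (U.subgroupOf W) hU hx

/-- No subgroup of small index in `W` has its squares and commutators in a proper part of `Z₃`. -/
theorem Cond.no_singular (h : Cond T W) {U K : Subgroup T} (hUW : U ≤ W) (hU : U.relIndex W ≤ 8)
    (hK : K ≤ Z[3]) (hKne : ¬ Z[3] ≤ K) (hsq : ∀ x ∈ U, x * x ∈ K)
    (hcm : ∀ x ∈ U, ∀ y ∈ U, x * y * x⁻¹ * y⁻¹ ∈ K) : False := by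
  have hZU : Z[3] ≤ U := h.deep' (hU.trans (by norm_num))
  obtain ⟨z, hz, hzK⟩ := SetLike.not_le_iff_exists.1 hKne
  obtain ⟨H, ⟨hKH, hHU, hzH⟩, hmax⟩ := Set.Finite.exists_maximal
    (s := {H : Subgroup T | K ≤ H ∧ H ≤ U ∧ z ∉ H}) (Set.toFinite _) ⟨K, le_rfl, hK.trans hZU, hzK⟩
  have key : ∀ y ∈ U, y ∈ H ∨ z * y ∈ H := by
    intro y hy
    by_cases hyH : y ∈ H
    · exact Or.inl hyH
    have hconj : ∀ k ∈ H, y * k * y⁻¹ ∈ H := fun k hk => by
      have := H.mul_mem (hKH (hcm y hy k (hHU hk))) hk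
      rwa [inv_mul_cancel_right] at this
    have hyy : y * y ∈ H := hKH (hsq y hy)
    let H' : Subgroup T :=
      { carrier := {u | u ∈ H ∨ u * y ∈ H}
        one_mem' := Or.inl H.one_mem
        mul_mem' := fun {u v} hu hv => by
          have hv' : ∀ k ∈ H, y⁻¹ * k * y ∈ H := fun k hk => by
            have := H.mul_mem (H.mul_mem (H.inv_mem hyy) (hconj k hk)) hyy
            rwa [show (y * y)⁻¹ * (y * k * y⁻¹) * (y * y) = y⁻¹ * k * y by group] at this
          rcases hu with hu | hu <;> rcases hv with hv | hv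
          · exact Or.inl (H.mul_mem hu hv)
          · exact Or.inr (by rw [mul_assoc]; exact H.mul_mem hu hv)
          · refine Or.inr ?_
            rw [show u * v * y = (u * y) * (y⁻¹ * v * y) by group]
            exact H.mul_mem hu (hv' v hv)
          · refine Or.inl ?_
            rw [show u * v = (u * y) * (y⁻¹ * (v * y) * y) * (y * y)⁻¹ by group]
            exact H.mul_mem (H.mul_mem hu (hv' _ hv)) (H.inv_mem hyy)
        inv_mem' := fun {u} hu => by
          rcases hu with hu | hu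
          · exact Or.inl (H.inv_mem hu)
          · refine Or.inr ?_
            rw [show u⁻¹ * y = y * (u * y)⁻¹ * y⁻¹ * (y * y) by group]
            exact H.mul_mem (hconj _ (H.inv_mem hu)) hyy }
    have hyH' : y ∈ H' := Or.inr hyy
    by_cases hzH' : z ∈ H'
    · rcases hzH' with hz' | hz'
      · exact absurd hz' hzH
      · exact Or.inr hz'
    refine absurd (hmax (y := H') ⟨hKH.trans fun u hu => Or.inl hu, ?_, hzH'⟩ (fun u hu => Or.inl hu) hyH') hyH
    rintro u (hu | hu)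
    · exact hHU hu
    · have := U.mul_mem (hHU hu) (U.inv_mem hy)
      rwa [mul_inv_cancel_right] at this
  have hrel : H.relIndex U ≤ 2 := by
    rw [relIndex, index_eq_card]
    classical
    refine le_trans (Nat.card_le_card_of_surjective
      (fun i : Bool => if i then (QuotientGroup.mk (⟨z, hZU hz⟩ : ↥U) : ↥U ⧸ H.subgroupOf U) else QuotientGroup.mk 1) ?_) (by simp)
    intro q
    induction q using QuotientGroup.induction_on with
    | H y =>
      rcases key y y.2 with h1 | h1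
      · exact ⟨false, by simp only [Bool.false_eq_true, if_false]; exact QuotientGroup.eq.2 (by simpa [mem_subgroupOf] using h1)⟩
      · refine ⟨true, ?_⟩
        simp only [if_true]
        refine QuotientGroup.eq.2 ?_
        rw [mem_subgroupOf]
        have hzz : z * z ∈ H := hKH (hsq z (hZU hz))
        have := H.mul_mem (H.inv_mem hzz) h1
        rw [show (z * z)⁻¹ * (z * (y : T)) = z⁻¹ * y by group] at this
        simpa using this
  have hHW : H.relIndex W ≤ 16 := by
    rw [← relIndex_mul_relIndex H U W hHU hUW]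
    exact Nat.mul_le_mul hrel hU
  exact hzH (h.deep' hHW hz)

theorem Cond.z_sq (h : Cond T W) : (∀ x ∈ Z[2], x * x = 1) ∧ ∀ x ∈ Z[3], x * x ∈ Z[1] := by
  obtain ⟨a, b, c, F⟩ := h.flag
  have h12 := Subgroup.upperCentralSeries_mono T (show 1 ≤ 2 by norm_num)
  have h23 := Subgroup.upperCentralSeries_mono T (show 2 ≤ 3 by norm_num)
  have ha2 : a * a ∈ Z[2] := by
    rcases h.decomp (i := 2) (by norm_num) F.a3 F.a2 (mul_mem F.a3 F.a3) with h1 | h1
    · exact h1
    · rw [inv_mul_cancel_left] at h1; exact absurd h1 F.a2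
  have hb2 : b * b ∈ Z[1] := by
    rcases h.decomp (i := 1) (by norm_num) F.b2 F.b1 (mul_mem F.b2 F.b2) with h1 | h1
    · exact h1
    · rw [inv_mul_cancel_left] at h1; exact absurd h1 F.b1
  have ha1 : a * a ∈ Z[1] := by
    by_contra hne
    have F' : Flag T a (a * a) c := ⟨F.a3, F.a2, ha2, hne, F.c1, F.c0⟩
    obtain ⟨t, h1, h2⟩ := h.realize F' (one_mem _) F.c1
    rw [one_mul] at h1
    rw [show t * (a * a) * t⁻¹ = (t * a * t⁻¹) * (t * a * t⁻¹) by group, h1] at h2
    exact F.c0 (mul_eq_right.1 h2.symm)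
  have hbb : b * b = 1 := by
    obtain ⟨t, h1, -⟩ := h.realize F F.b2 (one_mem _)
    have h3 : (b * a) * (b * a) = a * a := by
      rw [← h1, show t * a * t⁻¹ * (t * a * t⁻¹) = t * (a * a) * t⁻¹ by group, h.mem_one ha1 t, mul_inv_cancel_right]
    rw [show b * a * (b * a) = b * (a * b) * a by group, h.z3_comm F.a3 (h23 F.b2),
      show b * (b * a) * a = b * b * (a * a) by group] at h3
    exact mul_eq_right.1 h3
  have hone : ∀ x ∈ Z[1], x * x = 1 := by
    intro x hx
    have hc : c * c = 1 := by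
      rcases h.z1_cases F.c1 F.c0 (mul_mem F.c1 F.c1) with h1 | h1
      · exact h1
      · exact absurd (mul_eq_right.1 h1) F.c0
    rcases h.z1_cases F.c1 F.c0 hx with rfl | rfl
    · exact one_mul 1
    · exact hc
  have htwo : ∀ x ∈ Z[2], x * x = 1 := by
    intro x hx
    rcases h.decomp (i := 1) (by norm_num) F.b2 F.b1 hx with h1 | h1
    · exact hone x h1
    · obtain ⟨w, hw, rfl⟩ : ∃ w ∈ Z[1], x = b * w := ⟨_, h1, by group⟩
      rw [show b * w * (b * w) = b * (w * b) * w by group, ← h.mem_one hw b,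
        show b * (b * w) * w = b * b * (w * w) by group, hbb, hone w hw, one_mul]
  refine ⟨htwo, fun x hx => ?_⟩
  rcases h.decomp (i := 2) (by norm_num) F.a3 F.a2 hx with h1 | h1
  · rw [htwo x h1]; exact one_mem _
  · obtain ⟨w, hw, rfl⟩ : ∃ w ∈ Z[2], x = a * w := ⟨_, h1, by group⟩
    rw [show a * w * (a * w) = a * (w * a) * w by group, ← h.z3_comm F.a3 (h23 hw),
      show a * (a * w) * w = a * a * (w * w) by group, htwo w hw, mul_one]
    exact ha1

/-- The commutators of `W` do not all lie in `Z₂`. -/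
theorem Cond.comm_not_le (h : Cond T W) : ¬ ∀ x ∈ W, ∀ y ∈ W, x * y * x⁻¹ * y⁻¹ ∈ Z[2] := by
  intro hall
  obtain ⟨a, b, c, F⟩ := h.flag
  have h23 := Subgroup.upperCentralSeries_mono T (show 2 ≤ 3 by norm_num)
  have h12 := Subgroup.upperCentralSeries_mono T (show 1 ≤ 2 by norm_num)
  have hprod : ∀ x ∈ W, ∀ y ∈ W, (x * y) * (x * y) = (y * x * y⁻¹ * x⁻¹) * ((x * x) * (y * y)) := by
    intro x hx y hy
    have hc := h.comm_mem hy hx
    calc x * y * (x * y) = x * (y * x * y⁻¹ * x⁻¹) * x * (y * y) := by group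
      _ = (y * x * y⁻¹ * x⁻¹) * x * x * (y * y) := by rw [h.W_comm hx hc]
      _ = _ := by group
  let U : Subgroup T :=
    { carrier := {x | x ∈ W ∧ x * x ∈ Z[2]}
      one_mem' := ⟨one_mem W, by rw [one_mul]; exact one_mem _⟩
      mul_mem' := fun {x y} hx hy => ⟨W.mul_mem hx.1 hy.1, by
        rw [hprod x hx.1 y hy.1]
        exact mul_mem (hall y hy.1 x hx.1) (mul_mem hx.2 hy.2)⟩
      inv_mem' := fun {x} hx => ⟨W.inv_mem hx.1, by rw [← mul_inv_rev]; exact inv_mem hx.2⟩ }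
  refine h.no_singular (U := U) (K := Z[2]) (fun x hx => hx.1) ?_ h23 (fun hle => F.a2 (hle F.a3))
    (fun x hx => hx.2) (fun x hx y hy => hall x hx.1 y hy.1)
  by_cases hex : ∃ y ∈ W, y * y ∉ Z[2]
  · obtain ⟨y, hy, hy'⟩ := hex
    rw [relIndex, index_eq_card]
    classical
    refine le_trans (Nat.card_le_card_of_surjective
      (fun i : Bool => if i then (QuotientGroup.mk (⟨y, hy⟩ : ↥W) : ↥W ⧸ U.subgroupOf W) else QuotientGroup.mk 1) ?_) (by simp)
    intro q
    induction q using QuotientGroup.induction_on with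
    | H x =>
      by_cases hx : (x : T) * x ∈ Z[2]
      · exact ⟨false, by simp only [Bool.false_eq_true, if_false]; exact QuotientGroup.eq.2 (by
          rw [mem_subgroupOf]; exact ⟨W.mul_mem (W.inv_mem (one_mem W)) x.2, by simpa using hx⟩)⟩
      · refine ⟨true, ?_⟩
        simp only [if_true]
        refine QuotientGroup.eq.2 ?_
        rw [mem_subgroupOf]
        refine ⟨W.mul_mem (W.inv_mem hy) x.2, ?_⟩
        show y⁻¹ * (x : T) * (y⁻¹ * x) ∈ Z[2]
        rw [hprod _ (W.inv_mem hy) _ x.2]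
        refine mul_mem (hall _ x.2 _ (W.inv_mem hy)) ?_
        have e1 : y⁻¹ * y⁻¹ = (y * y)⁻¹ := (mul_inv_rev y y).symm
        rw [e1]
        rcases h.decomp (i := 2) (by norm_num) (h.sq_mem hy) hy' (h.sq_mem x.2) with h1 | h1
        · exact absurd h1 hx
        · exact h1
  · push Not at hex
    rw [relIndex_eq_one.2 (show W ≤ U from fun x hx => ⟨hx, hex x hx⟩)]
    norm_num

theorem Cond.elem (h : Cond T W) {x : T} (hx : x ∈ Z[3]) : x * x = 1 := by
  by_contra hne
  obtain ⟨htwo, hone⟩ := h.z_sq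
  obtain ⟨a, b, c, F⟩ := h.flag
  have hkey : ∀ z ∈ Z[3], z * z = 1 → z ∈ Z[2] := by
    intro z hz hzz
    by_contra hz2
    apply hne
    rcases h.decomp (i := 2) (by norm_num) hz hz2 hx with h1 | h1
    · exact htwo x h1
    · obtain ⟨w, hw, rfl⟩ : ∃ w ∈ Z[2], x = z * w := ⟨_, h1, by group⟩
      rw [show z * w * (z * w) = z * (w * z) * w by group,
        ← h.z3_comm hz (Subgroup.upperCentralSeries_mono T (show 2 ≤ 3 by norm_num) hw),
        show z * (z * w) * w = z * z * (w * w) by group, hzz, htwo w hw, one_mul]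
  refine h.comm_not_le fun u hu v hv => hkey _ (h.comm_mem hu hv) ?_
  set k := u * v * u⁻¹ * v⁻¹ with hk
  have hkz : k ∈ Z[3] := h.comm_mem hu hv
  have huv : u * v * u⁻¹ = k * v := by rw [hk]; group
  have h2 : u * (u * v * u⁻¹) * u⁻¹ = v := by
    calc u * (u * v * u⁻¹) * u⁻¹ = (u * u) * v * (u * u)⁻¹ := by group
      _ = v := by rw [h.W_comm hv (h.sq_mem hu), mul_inv_cancel_right]
  rw [huv] at h2
  have h3 : k * (k * v) = v := by
    calc k * (k * v) = k * (u * v * u⁻¹) := by rw [huv]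
      _ = (k * u) * v * u⁻¹ := by group
      _ = (u * k) * v * u⁻¹ := by rw [h.W_comm hu hkz]
      _ = u * (k * v) * u⁻¹ := by group
      _ = v := h2
  rw [← mul_assoc] at h3
  exact mul_eq_right.1 h3

theorem Cond.derived (h : Cond T W) : (commutator ↥W).map W.subtype = Z[3] := by
  haveI : Fact (Nat.Prime 2) := ⟨Nat.prime_two⟩
  haveI := h.W_normal
  haveI : ((commutator ↥W).map W.subtype).Normal := ConjAct.normal_of_characteristic_of_normal
  have hle : (commutator ↥W).map W.subtype ≤ Z[3] := h.main.1 ▸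
    map_mono (Cfsg.Lib.PGroup.commutator_le_frattini (h.two.to_subgroup W))
  refine le_antisymm hle ?_
  by_contra hnot
  have h2 := two_mul_card_le h.two hle (fun e => hnot e.ge)
  rw [h.cardZ (by norm_num)] at h2
  have hle2 := le_of_card_le h.two (N := (commutator ↥W).map W.subtype) (k := 2) (by omega)
  refine h.comm_not_le fun x hx y hy => hle2 ⟨⁅(⟨x, hx⟩ : ↥W), ⟨y, hy⟩⁆, ?_, by simp [commutatorElement_def]⟩
  rw [commutator_def]; exact commutator_mem_commutator (mem_top _) (mem_top _)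

end Cfsg.Lib.RudSylow
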